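import Mathlib

/-!
Finite projective planes: basic incidence facts and counts used for the Ostrom-Wagner theorem.
-/

set_option autoImplicit false
set_option linter.style.haveILetI false

namespace H27.OW

open Configuration

variable {P L : Type*} [Membership P L] [ProjectivePlane P L]

theorem line_eq {p q : P} (h : p ≠ q) {l m : L} (hp : p ∈ l) (hq : q ∈ l) (hp' : p ∈ m)
    (hq' : q ∈ m) : l = m :=
  (Nondegenerate.eq_or_eq hp hq hp' hq').resolve_left h

theorem point_eq {l m : L} (h : l ≠ m) {p q : P} (hp : p ∈ l) (hp' : p ∈ m) (hq : q ∈ l)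
    (hq' : q ∈ m) : p = q :=
  (Nondegenerate.eq_or_eq hp hq hp' hq').resolve_right h

theorem exists_join {p q : P} (h : p ≠ q) : ∃ l : L, p ∈ l ∧ q ∈ l :=
  ⟨_, HasLines.mkLine_ax h⟩

theorem exists_meet {l m : L} (h : l ≠ m) : ∃ p : P, p ∈ l ∧ p ∈ m :=
  ⟨_, HasPoints.mkPoint_ax h⟩

variable [Finite P] [Finite L]

theorem exists_mem_ne_ne (l : L) (a b : P) : ∃ p ∈ l, p ≠ a ∧ p ≠ b := by
  by_contra h
  push Not at h
  have hc := ProjectivePlane.two_lt_pointCount P l
  have : ({p : P | p ∈ l} : Set P).ncard ≤ ({a, b} : Set P).ncard := by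
    refine Set.ncard_le_ncard ?_ (Set.toFinite _)
    intro p hp
    rcases eq_or_ne p a with he | he
    · exact Or.inl he
    · exact Or.inr (h p hp he)
  have h2 : ({a, b} : Set P).ncard ≤ 2 := by
    refine (Set.ncard_insert_le _ _).trans ?_
    simp
  rw [Configuration.pointCount] at hc
  have h3 : Nat.card {p : P // p ∈ l} = ({p : P | p ∈ l} : Set P).ncard :=
    Nat.card_coe_set_eq _
  omega

theorem exists_mem (l : L) : ∃ p : P, p ∈ l := by
  obtain ⟨q, -⟩ := Nondegenerate.exists_point (P := P) l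
  obtain ⟨p, hp, -⟩ := exists_mem_ne_ne l q q
  exact ⟨p, hp⟩

theorem exists_mem_ne (l : L) (a : P) : ∃ p ∈ l, p ≠ a := by
  obtain ⟨p, hp, h, -⟩ := exists_mem_ne_ne l a a
  exact ⟨p, hp, h⟩

theorem exists_through_ne_ne (p : P) (a b : L) : ∃ l : L, p ∈ l ∧ l ≠ a ∧ l ≠ b :=
  exists_mem_ne_ne (P := Dual L) (L := Dual P) p a b

theorem exists_through (p : P) : ∃ l : L, p ∈ l :=
  exists_mem (P := Dual L) (L := Dual P) p

theorem exists_through_ne (p : P) (a : L) : ∃ l : L, p ∈ l ∧ l ≠ a :=
  exists_mem_ne (P := Dual L) (L := Dual P) p a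

theorem exists_join' (p q : P) : ∃ l : L, p ∈ l ∧ q ∈ l := by
  by_cases h : p = q
  · subst h
    obtain ⟨l, hl⟩ := exists_through (L := L) p
    exact ⟨l, hl, hl⟩
  · exact exists_join h

theorem exists_notMem_notMem (l m : L) : ∃ p : P, p ∉ l ∧ p ∉ m := by
  by_cases h : l = m
  · subst h
    obtain ⟨p, hp⟩ := Nondegenerate.exists_point (P := P) l
    exact ⟨p, hp, hp⟩
  obtain ⟨D, hD, hD'⟩ := exists_meet (P := P) h
  obtain ⟨k, hk, hkl, hkm⟩ := exists_through_ne_ne D l m
  obtain ⟨p, hp, hpD⟩ := exists_mem_ne k D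
  exact ⟨p, fun hpl => hkl (line_eq hpD hp hk hpl hD), fun hpm => hkm (line_eq hpD hp hk hpm hD')⟩

theorem card_on (l : L) : Nat.card {p : P // p ∈ l} = ProjectivePlane.order P L + 1 :=
  ProjectivePlane.pointCount_eq P l

theorem card_at (p : P) : Nat.card {l : L // p ∈ l} = ProjectivePlane.order P L + 1 :=
  ProjectivePlane.lineCount_eq L p

theorem card_on_ne {l : L} {a : P} (ha : a ∈ l) :
    Nat.card {p : P // p ∈ l ∧ p ≠ a} = ProjectivePlane.order P L := by
  classical
  haveI : Fintype P := Fintype.ofFinite P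
  have h := card_on (P := P) l
  rw [Nat.card_eq_fintype_card, Fintype.card_subtype] at h ⊢
  have he : (Finset.univ.filter fun p : P => p ∈ l ∧ p ≠ a) =
      (Finset.univ.filter fun p : P => p ∈ l).erase a := by
    ext p; simp [and_comm]
  rw [he, Finset.card_erase_of_mem (by simp [ha]), h]
  omega

theorem card_at_ne {p : P} {a : L} (ha : p ∈ a) :
    Nat.card {l : L // p ∈ l ∧ l ≠ a} = ProjectivePlane.order P L :=
  (card_on_ne (P := Dual L) (L := Dual P) (l := p) (a := a) ha).trans
    (ProjectivePlane.Dual.order P L)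

theorem card_points' : Nat.card P = ProjectivePlane.order P L ^ 2 + ProjectivePlane.order P L + 1 := by
  haveI : Fintype P := Fintype.ofFinite P
  rw [Nat.card_eq_fintype_card]
  exact ProjectivePlane.card_points P L

theorem card_lines' : Nat.card L = ProjectivePlane.order P L ^ 2 + ProjectivePlane.order P L + 1 := by
  haveI : Fintype L := Fintype.ofFinite L
  rw [Nat.card_eq_fintype_card]
  exact ProjectivePlane.card_lines P L

theorem card_notMem (l : L) :
    Nat.card {p : P // p ∉ l} = ProjectivePlane.order P L ^ 2 := by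
  classical
  haveI : Fintype P := Fintype.ofFinite P
  have h := card_on (P := P) l
  have h1 := card_points' (P := P) (L := L)
  rw [Nat.card_eq_fintype_card] at h h1 ⊢
  rw [Fintype.card_subtype_compl fun p : P => p ∈ l, h, h1]
  omega

theorem card_notThrough (p : P) :
    Nat.card {l : L // p ∉ l} = ProjectivePlane.order P L ^ 2 :=
  (card_notMem (P := Dual L) (L := Dual P) p).trans
    (congrArg (· ^ 2) (ProjectivePlane.Dual.order P L))

end H27.OW
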