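import Cfsg.Agent.H27.OW.Base

/-!
Collineations of a projective plane: axes, centres, duality.
-/

set_option autoImplicit false
set_option linter.style.haveILetI false
set_option linter.unusedSectionVars false

namespace H27.OW

open Configuration

variable (P L : Type*) [Membership P L]

/-- The group of pairs of permutations of points and lines preserving incidence. -/
def collGroup : Subgroup (Equiv.Perm P × Equiv.Perm L) where
  carrier := {f | ∀ p l, f.1 p ∈ f.2 l ↔ p ∈ l}
  one_mem' := fun _ _ => Iff.rfl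
  mul_mem' := fun {f g} hf hg p l => (hf _ _).trans (hg p l)
  inv_mem' := fun {f} hf p l => by
    have := hf (f.1⁻¹ p) (f.2⁻¹ l)
    simpa using this.symm

/-- Collineations. -/
abbrev Coll := ↥(collGroup P L)

instance collActPoints : MulAction (Coll P L) P :=
  MulAction.compHom P ((MonoidHom.fst (Equiv.Perm P) (Equiv.Perm L)).comp (collGroup P L).subtype)

instance collActLines : MulAction (Coll P L) L :=
  MulAction.compHom L ((MonoidHom.snd (Equiv.Perm P) (Equiv.Perm L)).comp (collGroup P L).subtype)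

variable {P L}

theorem smul_point (g : Coll P L) (p : P) : g • p = g.1.1 p := rfl

theorem smul_line (g : Coll P L) (l : L) : g • l = g.1.2 l := rfl

theorem smul_mem_smul (g : Coll P L) (p : P) (l : L) : g • p ∈ g • l ↔ p ∈ l := g.2 p l

theorem mem_smul (g : Coll P L) (p : P) (l : L) : p ∈ g • l ↔ g⁻¹ • p ∈ l := by
  conv_lhs => rw [← smul_inv_smul g p]
  rw [smul_mem_smul]

theorem smul_mem_of_mem {g : Coll P L} {p : P} {l : L} (hl : g • l = l) (hp : p ∈ l) :
    g • p ∈ l := by
  have := (smul_mem_smul g p l).2 hp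
  rwa [hl] at this

theorem smul_mem_of_fix {g : Coll P L} {p : P} {l : L} (hg : g • p = p) (hp : p ∈ l) :
    p ∈ g • l := by
  have := (smul_mem_smul g p l).2 hp
  rwa [hg] at this

/-- The inverse of a collineation in the dual plane. -/
def dualColl : Coll P L ≃* Coll (Dual L) (Dual P) where
  toFun g := ⟨(g.1.2, g.1.1), fun l p => g.2 p l⟩
  invFun g := ⟨(g.1.2, g.1.1), fun p l => g.2 l p⟩
  left_inv _ := rfl
  right_inv _ := rfl
  map_mul' _ _ := rfl

variable [ProjectivePlane P L]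

theorem smul_eq_of_two {g : Coll P L} {p q : P} {l : L} (h : p ≠ q) (hp : p ∈ l) (hq : q ∈ l)
    (hgp : g • p = p) (hgq : g • q = q) : g • l = l :=
  line_eq h (smul_mem_of_fix hgp hp) (smul_mem_of_fix hgq hq) hp hq

theorem smul_eq_of_two' {g : Coll P L} {p : P} {l m : L} (h : l ≠ m) (hp : p ∈ l) (hq : p ∈ m)
    (hgl : g • l = l) (hgm : g • m = m) : g • p = p :=
  point_eq h (smul_mem_of_mem hgl hp) (smul_mem_of_mem hgm hq) hp hq

/-- `a` is fixed pointwise. -/
def Axis (g : Coll P L) (a : L) : Prop := ∀ p : P, p ∈ a → g • p = p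

/-- every line through `C` is fixed. -/
def Cen (g : Coll P L) (C : P) : Prop := ∀ l : L, C ∈ l → g • l = l

theorem axis_dual {g : Coll P L} {C : P} :
    Axis (P := Dual L) (L := Dual P) (dualColl g) C ↔ Cen g C := Iff.rfl

theorem cen_dual {g : Coll P L} {a : L} :
    Cen (P := Dual L) (L := Dual P) (dualColl g) a ↔ Axis g a := Iff.rfl

variable [Finite P] [Finite L]

theorem eq_one_of_forall {g : Coll P L} (h : ∀ p : P, g • p = p) : g = 1 := by
  refine Subtype.ext (Prod.ext (Equiv.ext h) (Equiv.ext fun l => ?_))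
  obtain ⟨p, hp⟩ := exists_mem (P := P) l
  obtain ⟨q, hq, hqp⟩ := exists_mem_ne l p
  exact smul_eq_of_two (Ne.symm hqp) hp hq (h p) (h q)

theorem Axis.smul_line {g : Coll P L} {a : L} (h : Axis g a) : g • a = a := by
  obtain ⟨p, hp⟩ := exists_mem (P := P) a
  obtain ⟨q, hq, hqp⟩ := exists_mem_ne a p
  exact smul_eq_of_two (Ne.symm hqp) hp hq (h p hp) (h q hq)

theorem Cen.smul_point {g : Coll P L} {C : P} (h : Cen g C) : g • C = C :=
  Axis.smul_line (P := Dual L) (L := Dual P) (axis_dual.2 h)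

theorem Axis.cen_of_fix {g : Coll P L} {a : L} (h : Axis g a) {X : P} (hX : X ∉ a)
    (hgX : g • X = X) : Cen g X := by
  intro l hl
  have hla : l ≠ a := fun he => hX (he ▸ hl)
  obtain ⟨Q, hQl, hQa⟩ := exists_meet (P := P) hla
  exact smul_eq_of_two (fun he : X = Q => hX (by rw [he]; exact hQa)) hl hQl hgX (h Q hQa)

theorem Axis.exists_cen {g : Coll P L} {a : L} (h : Axis g a) : ∃ C, Cen g C := by
  by_cases hfix : ∃ X : P, X ∉ a ∧ g • X = X
  · obtain ⟨X, hX, hgX⟩ := hfix
    exact ⟨X, h.cen_of_fix hX hgX⟩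
  push Not at hfix
  have hline : ∀ Y : P, Y ∉ a → ∃ m : L, Y ∈ m ∧ g • m = m ∧ m ≠ a := by
    intro Y hY
    obtain ⟨m, hYm, hgYm⟩ := exists_join (L := L) (Ne.symm (hfix Y hY))
    have hma : m ≠ a := fun he => hY (he ▸ hYm)
    obtain ⟨D, hDm, hDa⟩ := exists_meet (P := P) hma
    refine ⟨m, hYm, line_eq (fun he : g • Y = D => ?_) ((smul_mem_smul g Y m).2 hYm)
      (smul_mem_of_fix (h D hDa) hDm) hgYm hDm, hma⟩
    have := (smul_mem_smul g Y a).1 (by rw [h.smul_line, he]; exact hDa)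
    exact hY this
  obtain ⟨Y₀, hY₀⟩ := Nondegenerate.exists_point (P := P) a
  obtain ⟨m₀, hY₀m, hm₀, hm₀a⟩ := hline Y₀ hY₀
  obtain ⟨D, hDm, hDa⟩ := exists_meet (P := P) hm₀a
  refine ⟨D, fun l hl => ?_⟩
  by_cases hla : l = a
  · rw [hla]; exact h.smul_line
  obtain ⟨Y, hYl, hYD⟩ := exists_mem_ne l D
  have hYa : Y ∉ a := fun hy => hla (line_eq hYD hYl hl hy hDa)
  obtain ⟨m, hYm, hm, hma⟩ := hline Y hYa
  by_cases hmm : m = m₀
  · have : l = m := line_eq hYD hYl hl hYm (hmm ▸ hDm)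
    rw [this]; exact hm
  obtain ⟨Z, hZm, hZm₀⟩ := exists_meet (P := P) hmm
  have hZ := smul_eq_of_two' hmm hZm hZm₀ hm hm₀
  have hZa : Z ∈ a := by
    by_contra hZa
    exact hfix Z hZa hZ
  have hZD : Z = D := point_eq hm₀a hZm₀ hZa hDm hDa
  have : l = m := line_eq hYD hYl hl hYm (hZD ▸ hZm)
  rw [this]; exact hm

theorem Cen.exists_axis {g : Coll P L} {C : P} (h : Cen g C) : ∃ a, Axis g a :=
  Axis.exists_cen (P := Dual L) (L := Dual P) (axis_dual.2 h)

theorem eq_one_of_two_cen {g : Coll P L} {C C' : P} (h : Cen g C) (h' : Cen g C') (hne : C ≠ C') :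
    g = 1 := by
  obtain ⟨k, hCk, hC'k⟩ := exists_join (L := L) hne
  have hoff : ∀ X : P, X ∉ k → g • X = X := by
    intro X hX
    obtain ⟨l, hXl, hCl⟩ := exists_join (L := L) (fun he : X = C => hX (he ▸ hCk))
    obtain ⟨l', hXl', hC'l'⟩ := exists_join (L := L) (fun he : X = C' => hX (he ▸ hC'k))
    refine smul_eq_of_two' (fun he : l = l' => hX ?_) hXl hXl' (h l hCl) (h' l' hC'l')
    rw [← line_eq hne hCl (he ▸ hC'l') hCk hC'k]
    exact hXl
  refine eq_one_of_forall fun X => ?_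
  by_cases hX : X ∈ k
  · obtain ⟨l, hXl, hlk⟩ := exists_through_ne X k
    obtain ⟨l', hXl', hl'k, hl'l⟩ := exists_through_ne_ne X k l
    have hfixl : ∀ m : L, X ∈ m → m ≠ k → g • m = m := by
      intro m hm hmk
      obtain ⟨Y, hY, hYX⟩ := exists_mem_ne m X
      obtain ⟨Y', hY', hY'X, hY'Y⟩ := exists_mem_ne_ne m X Y
      exact smul_eq_of_two (Ne.symm hY'Y) hY hY'
        (hoff Y fun hy => hmk (line_eq hYX hY hm hy hX))
        (hoff Y' fun hy => hmk (line_eq hY'X hY' hm hy hX))
    exact smul_eq_of_two' hl'l hXl' hXl (hfixl l' hXl' hl'k) (hfixl l hXl hlk)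
  · exact hoff X hX

theorem eq_one_of_two_axes {g : Coll P L} {a a' : L} (h : Axis g a) (h' : Axis g a') (hne : a ≠ a') :
    g = 1 := by
  have := eq_one_of_two_cen (P := Dual L) (L := Dual P) (g := dualColl g) (C := a) (C' := a')
    (cen_dual.2 h) (cen_dual.2 h') hne
  exact dualColl.map_eq_one_iff.1 this

theorem point_cases {g : Coll P L} {a : L} {C X : P} (ha : Axis g a) (hC : Cen g C) (hg : g ≠ 1)
    (hX : g • X = X) : X ∈ a ∨ X = C := by
  by_contra h
  push Not at h
  exact hg (eq_one_of_two_cen (ha.cen_of_fix h.1 hX) hC h.2)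

theorem line_cases {g : Coll P L} {a l : L} {C : P} (ha : Axis g a) (hC : Cen g C) (hg : g ≠ 1)
    (hl : g • l = l) : l = a ∨ C ∈ l :=
  (point_cases (P := Dual L) (L := Dual P) (g := dualColl g) (axis_dual.2 hC) (cen_dual.2 ha)
    (fun h => hg (dualColl.map_eq_one_iff.1 h)) hl).symm

theorem Axis.conj {g : Coll P L} {a : L} (h : Axis g a) (x : Coll P L) :
    Axis (x * g * x⁻¹) (x • a) := by
  intro p hp
  rw [mul_smul, mul_smul, h _ ((mem_smul x p a).1 hp), smul_inv_smul]

theorem Cen.conj {g : Coll P L} {C : P} (h : Cen g C) (x : Coll P L) :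
    Cen (x * g * x⁻¹) (x • C) := by
  intro l hl
  rw [mul_smul, mul_smul]
  have : C ∈ x⁻¹ • l := by
    rw [← inv_smul_smul x C]
    exact (smul_mem_smul x⁻¹ _ _).2 hl
  rw [h _ this, smul_inv_smul]

/-- The group of collineations fixing `a` pointwise. -/
def axisGrp (a : L) : Subgroup (Coll P L) where
  carrier := {g | Axis g a}
  one_mem' := fun p _ => one_smul _ p
  mul_mem' := fun {f g} hf hg p hp => by rw [mul_smul, hg p hp, hf p hp]
  inv_mem' := fun {f} hf p hp => by
    rw [inv_smul_eq_iff]; exact (hf p hp).symm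

/-- The group of collineations fixing all lines through `C`. -/
def cenGrp (C : P) : Subgroup (Coll P L) where
  carrier := {g | Cen g C}
  one_mem' := fun l _ => one_smul _ l
  mul_mem' := fun {f g} hf hg l hl => by rw [mul_smul, hg l hl, hf l hl]
  inv_mem' := fun {f} hf l hl => by
    rw [inv_smul_eq_iff]; exact (hf l hl).symm

/-- The perspectivities with centre `C` and axis `a`, with the identity. -/
def perspGrp (C : P) (a : L) : Subgroup (Coll P L) := cenGrp C ⊓ axisGrp a

@[simp] theorem mem_axisGrp {g : Coll P L} {a : L} : g ∈ axisGrp a ↔ Axis g a := Iff.rfl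

@[simp] theorem mem_cenGrp {g : Coll P L} {C : P} : g ∈ cenGrp C ↔ Cen g C := Iff.rfl

@[simp] theorem mem_perspGrp {g : Coll P L} {C : P} {a : L} :
    g ∈ perspGrp C a ↔ Cen g C ∧ Axis g a := Iff.rfl

end H27.OW
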