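import Cfsg.Agent.H78.JField

/-!
A spread of an elementary abelian group admitting all shears is the spread of lines through the
origin of a plane over a field.
-/

set_option autoImplicit false
set_option linter.style.haveILetI false
set_option linter.unusedSectionVars false

namespace H27.OW

variable {W : Type*} [AddCommGroup W] [Finite W] {I : Type*} [Finite I]
variable {E : I → AddSubgroup W} {n : ℕ}

/-- A spread with all shears about each of its members. -/
structure ShearSpread (E : I → AddSubgroup W) (n : ℕ) : Prop where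
  one_lt : 1 < n
  card_W : Nat.card W = n ^ 2
  card_I : Nat.card I = n + 1
  card_E : ∀ i, Nat.card (E i) = n
  disj : ∀ i j, i ≠ j → ∀ x ∈ E i, x ∈ E j → x = 0
  shear : ∀ b j k : I, j ≠ b → k ≠ b → ∃ (σ : W →+ W) (π : I → I), (∀ x ∈ E b, σ x = x) ∧
    (∀ x, σ x - x ∈ E b) ∧ (∀ i, ∀ x ∈ E i, σ x ∈ E (π i)) ∧ π j = k

theorem ShearSpread.uniq (h : ShearSpread E n) {b i : I} (hib : i ≠ b) {x y y' : W}
    (hy : y ∈ E b) (hy' : y' ∈ E b) (h1 : x + y ∈ E i) (h2 : x + y' ∈ E i) : y = y' := by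
  refine sub_eq_zero.1 (h.disj i b hib _ ?_ ((E b).sub_mem hy hy'))
  have h3 := (E i).sub_mem h1 h2
  rwa [add_sub_add_left_eq_sub] at h3

theorem ShearSpread.slope (h : ShearSpread E n) {a b : I} (hab : a ≠ b) {i : I} (hib : i ≠ b) :
    ∃ f : E a →+ E b, ∀ x : E a, (x : W) + (f x : W) ∈ E i := by
  let ψ : E a × E b →+ W := (E a).subtype.coprod (E b).subtype
  have hψ : Function.Bijective ψ := by
    refine (Nat.bijective_iff_injective_and_card ψ).2 ⟨(injective_iff_map_eq_zero ψ).2 ?_, ?_⟩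
    · rintro ⟨⟨x, hx⟩, ⟨y, hy⟩⟩ (he : x + y = 0)
      have hx0 : x = 0 := h.disj a b hab x hx
        (by rw [eq_neg_of_add_eq_zero_left he]; exact (E b).neg_mem hy)
      have hy0 : y = 0 := by rwa [hx0, zero_add] at he
      subst hx0 hy0
      rfl
    · rw [Nat.card_prod, h.card_E, h.card_E, h.card_W, pow_two]
  let q : E i →+ E a := ((AddMonoidHom.fst (E a) (E b)).comp
    (AddEquiv.ofBijective ψ hψ).symm.toAddMonoidHom).comp (E i).subtype
  have key : ∀ x : E i, (q x : W) + ((((AddEquiv.ofBijective ψ hψ).symm (x : W)).2 : E b) : W) =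
      x := fun x => (AddEquiv.ofBijective ψ hψ).apply_symm_apply (x : W)
  have hq : Function.Bijective q := by
    refine (Nat.bijective_iff_injective_and_card q).2 ⟨(injective_iff_map_eq_zero q).2 ?_, ?_⟩
    · intro x hx
      have h1 := key x
      rw [hx, ZeroMemClass.coe_zero, zero_add] at h1
      exact Subtype.ext (h.disj i b hib x x.2 (h1 ▸ SetLike.coe_mem _))
    · rw [h.card_E, h.card_E]
  refine ⟨((AddMonoidHom.snd (E a) (E b)).comp (AddEquiv.ofBijective ψ hψ).symm.toAddMonoidHom).comp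
    ((E i).subtype.comp (AddEquiv.ofBijective q hq).symm.toAddMonoidHom), fun x => ?_⟩
  have h1 := key ((AddEquiv.ofBijective q hq).symm x)
  rw [show q ((AddEquiv.ofBijective q hq).symm x) = x from
    (AddEquiv.ofBijective q hq).apply_symm_apply x] at h1
  refine (show _ = _ from h1) ▸ SetLike.coe_mem _

/-- The slopes for an ordered pair of spread members are closed under addition. -/
theorem ShearSpread.closed (h : ShearSpread E n) {a b i j : I} (hab : a ≠ b) (hi : i ≠ b)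
    (hj : j ≠ b) : ∃ k, k ≠ b ∧ ∀ x ∈ E a, ∀ y ∈ E b, ∀ z ∈ E b, x + y ∈ E i → x + z ∈ E j →
      x + (y + z) ∈ E k := by
  obtain ⟨σ, π, hfix, hsub, hmap, hπ⟩ := h.shear b a j hab hj
  refine ⟨π i, fun he => ?_, fun x hx y hy z hz hxy hxz => ?_⟩
  · haveI : Nontrivial (E i) :=
      Finite.one_lt_card_iff_nontrivial.1 (by rw [h.card_E]; exact h.one_lt)
    obtain ⟨⟨w, hw⟩, hne⟩ := exists_ne (0 : E i)
    have h1 := hmap i w hw
    rw [he] at h1
    have h2 := (E b).sub_mem h1 (hsub w)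
    rw [sub_sub_cancel] at h2
    exact hne (Subtype.ext (h.disj i b hi w hw h2))
  · have h1 := hmap a x hx
    rw [hπ] at h1
    have h2 : σ x - x = z := h.uniq hj (hsub x) hz (by rwa [add_sub_cancel]) hxz
    have h3 := hmap i (x + y) hxy
    rwa [map_add, hfix y hy, show σ x + y = x + (y + z) by rw [← h2]; abel] at h3

/-- The coordinatising field of a spread with all shears. -/
theorem ShearSpread.exists_field (h : ShearSpread E n) {p : ℕ} [Fact p.Prime]
    (hp : ∀ w : W, p • w = 0) {i0 i1 i2 : I} (h10 : i1 ≠ i0) (h20 : i2 ≠ i0) (h21 : i2 ≠ i1) :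
    ∃ (F : Type) (_ : Field F) (_ : Fintype F) (e : F × F ≃+ W) (s : F → I),
      (∀ i, i ≠ i0 → ∃ c, s c = i) ∧ (∀ c, s c ≠ i0) ∧ Function.Injective s ∧
      (∀ c x y, e (x, y) ∈ E (s c) ↔ y = c * x) ∧ ∀ x y, e (x, y) ∈ E i0 ↔ x = 0 := by
  classical
  haveI : Nontrivial (E i1) :=
    Finite.one_lt_card_iff_nontrivial.1 (by rw [h.card_E]; exact h.one_lt)
  obtain ⟨φ, hφ⟩ := h.slope h10 h20
  have hφb : Function.Bijective φ := by
    refine (Nat.bijective_iff_injective_and_card φ).2 ⟨(injective_iff_map_eq_zero φ).2 ?_,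
      by rw [h.card_E, h.card_E]⟩
    intro x hx
    have h1 := hφ x
    rw [hx, ZeroMemClass.coe_zero, add_zero] at h1
    exact Subtype.ext (h.disj i2 i1 h21 x h1 x.2)
  have neg : ∀ (S : Set (AddMonoid.End (E i1))), (0 : AddMonoid.End (E i1)) ∈ S →
      (∀ {x y}, x ∈ S → y ∈ S → x + y ∈ S) → ∀ {x}, x ∈ S → -x ∈ S := by
    intro S h0 hadd x hx
    have hk : ∀ k : ℕ, k • x ∈ S := fun k => by
      induction k with
      | zero => rw [zero_nsmul]; exact h0
      | succ k ih => rw [succ_nsmul]; exact hadd ih hx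
    have h2 : -x = (p - 1) • x := by
      refine (eq_neg_of_add_eq_zero_left ?_).symm
      rw [← succ_nsmul, Nat.sub_add_cancel (Fact.out : p.Prime).pos]
      exact DFunLike.ext _ _ fun v => Subtype.ext (hp _)
    exact h2 ▸ hk _
  let SK : Set (AddMonoid.End (E i1)) :=
    {x | ∃ i, i ≠ i0 ∧ ∀ m : E i1, (m : W) + (φ (x m) : W) ∈ E i}
  let SL : Set (AddMonoid.End (E i1)) :=
    {x | ∃ i, i ≠ i1 ∧ ∀ m : E i1, (φ m : W) + (x m : W) ∈ E i}
  have K0 : (0 : AddMonoid.End (E i1)) ∈ SK := ⟨i1, h10, fun m => by simp⟩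
  have L0 : (0 : AddMonoid.End (E i1)) ∈ SL := ⟨i0, h10.symm, fun m => by simp⟩
  have Kadd : ∀ {x y}, x ∈ SK → y ∈ SK → x + y ∈ SK := by
    rintro x y ⟨i, hi, hx⟩ ⟨j, hj, hy⟩
    obtain ⟨k, hk, hcl⟩ := h.closed h10 hi hj
    refine ⟨k, hk, fun m => ?_⟩
    have h1 := hcl m m.2 _ (φ (x m)).2 _ (φ (y m)).2 (hx m) (hy m)
    rw [show (x + y) m = x m + y m from rfl, map_add, AddSubgroup.coe_add]
    exact h1
  have Ladd : ∀ {x y}, x ∈ SL → y ∈ SL → x + y ∈ SL := by
    rintro x y ⟨i, hi, hx⟩ ⟨j, hj, hy⟩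
    obtain ⟨k, hk, hcl⟩ := h.closed h10.symm hi hj
    refine ⟨k, hk, fun m => ?_⟩
    have h1 := hcl _ (φ m).2 _ (x m).2 _ (y m).2 (hx m) (hy m)
    rw [show (x + y) m = x m + y m from rfl, AddSubgroup.coe_add]
    exact h1
  let K : AddSubgroup (AddMonoid.End (E i1)) :=
    { carrier := SK, zero_mem' := K0, add_mem' := Kadd, neg_mem' := neg SK K0 Kadd }
  let L : AddSubgroup (AddMonoid.End (E i1)) :=
    { carrier := SL, zero_mem' := L0, add_mem' := Ladd, neg_mem' := neg SL L0 Ladd }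
  have hK1 : (1 : AddMonoid.End (E i1)) ∈ K := ⟨i2, h20, hφ⟩
  have hL1 : (1 : AddMonoid.End (E i1)) ∈ L := ⟨i2, h21, fun m => by
    have h1 := hφ m
    rwa [add_comm] at h1⟩
  have inv : ∀ (x : AddMonoid.End (E i1)), Function.Injective x →
      ∃ y : AddMonoid.End (E i1), x * y = 1 ∧ y * x = 1 := fun x hx => by
    have hb : Function.Bijective x := ⟨hx, Finite.injective_iff_surjective.1 hx⟩
    refine ⟨(AddEquiv.ofBijective x hb).symm.toAddMonoidHom, DFunLike.ext _ _ fun m => ?_,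
      DFunLike.ext _ _ fun m => ?_⟩
    · exact (AddEquiv.ofBijective x hb).apply_symm_apply m
    · exact (AddEquiv.ofBijective x hb).symm_apply_apply m
  have hKL : ∀ x ∈ K, x ≠ 0 → ∃ y ∈ L, x * y = 1 ∧ y * x = 1 := by
    rintro x ⟨i, hi, hx⟩ hne
    have hi1 : i ≠ i1 := by
      rintro rfl
      refine hne (DFunLike.ext _ _ fun m => hφb.1 (Subtype.ext ?_))
      have h1 := (E i).sub_mem (hx m) m.2
      rw [add_sub_cancel_left] at h1
      rw [show (0 : AddMonoid.End (E i)) m = 0 from rfl, map_zero, ZeroMemClass.coe_zero]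
      exact h.disj i i0 h10 _ h1 (φ (x m)).2
    have hinj : Function.Injective x := (injective_iff_map_eq_zero x).2 fun m hm => by
      have h1 := hx m
      rw [hm, map_zero, ZeroMemClass.coe_zero, add_zero] at h1
      exact Subtype.ext (h.disj i i1 hi1 _ h1 m.2)
    obtain ⟨y, hxy, hyx⟩ := inv x hinj
    refine ⟨y, ⟨i, hi1, fun m => ?_⟩, hxy, hyx⟩
    have h1 := hx (y m)
    rwa [show x (y m) = m from DFunLike.congr_fun hxy m, add_comm] at h1
  have hLK : ∀ x ∈ L, x ≠ 0 → ∃ y ∈ K, x * y = 1 ∧ y * x = 1 := by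
    rintro x ⟨i, hi, hx⟩ hne
    have hi0 : i ≠ i0 := by
      rintro rfl
      refine hne (DFunLike.ext _ _ fun m => Subtype.ext ?_)
      have h1 := (E i).sub_mem (hx m) (φ m).2
      rw [add_sub_cancel_left] at h1
      exact h.disj i i1 hi _ h1 (x m).2
    have hinj : Function.Injective x := (injective_iff_map_eq_zero x).2 fun m hm => by
      have h1 := hx m
      rw [hm, ZeroMemClass.coe_zero, add_zero] at h1
      have h2 : φ m = 0 := Subtype.ext (h.disj i i0 hi0 _ h1 (φ m).2)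
      exact hφb.1 (h2.trans (map_zero φ).symm)
    obtain ⟨y, hxy, hyx⟩ := inv x hinj
    refine ⟨y, ⟨i, hi0, fun m => ?_⟩, hxy, hyx⟩
    have h1 := hx (y m)
    rwa [show x (y m) = m from DFunLike.congr_fun hxy m, add_comm] at h1
  have hex : ∀ i : {i // i ≠ i0}, ∃ x : AddMonoid.End (E i1),
      ∀ m : E i1, (m : W) + (φ (x m) : W) ∈ E i.1 := fun i => by
    obtain ⟨f, hf⟩ := h.slope h10 i.2
    refine ⟨(AddEquiv.ofBijective φ hφb).symm.toAddMonoidHom.comp f, fun m => ?_⟩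
    change (m : W) + (φ ((AddEquiv.ofBijective φ hφb).symm (f m)) : W) ∈ E i.1
    rw [show φ ((AddEquiv.ofBijective φ hφb).symm (f m)) = f m from
      (AddEquiv.ofBijective φ hφb).apply_symm_apply (f m)]
    exact hf m
  choose ξ hξ using hex
  have huniq : ∀ {x : AddMonoid.End (E i1)} {i j : I}, i ≠ i0 →
      (∀ m : E i1, (m : W) + (φ (x m) : W) ∈ E i) →
      (∀ m : E i1, (m : W) + (φ (x m) : W) ∈ E j) → i = j := by
    intro x i j hi h1 h2
    by_contra hne
    obtain ⟨m, hm⟩ := exists_ne (0 : E i1)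
    refine hm (Subtype.ext (h.disj i1 i0 h10 _ m.2 ?_))
    rw [eq_neg_of_add_eq_zero_left (h.disj i j hne _ (h1 m) (h2 m))]
    exact (E i0).neg_mem (φ (x m)).2
  have hcard : Nat.card K = Nat.card (E i1) := by
    have hb : Function.Bijective
        (fun i : {i // i ≠ i0} => (⟨ξ i, i.1, i.2, hξ i⟩ : K)) := by
      refine ⟨fun i j he => ?_, ?_⟩
      · have he' : ξ i = ξ j := congrArg Subtype.val he
        exact Subtype.ext (huniq i.2 (hξ i) (he' ▸ hξ j))
      · rintro ⟨x, i, hi, hx⟩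
        refine ⟨⟨i, hi⟩, Subtype.ext (DFunLike.ext _ _ fun m => hφb.1 (Subtype.ext ?_))⟩
        exact h.uniq hi (φ _).2 (φ _).2 (hξ ⟨i, hi⟩ m) (hx m)
    haveI := Fintype.ofFinite I
    rw [← Nat.card_congr (Equiv.ofBijective _ hb), h.card_E, Nat.card_eq_fintype_card,
      Fintype.card_subtype_compl, Fintype.card_subtype_eq, ← Nat.card_eq_fintype_card, h.card_I,
      Nat.add_sub_cancel]
  obtain ⟨F, hF, hFin, ι, e₀, hιK, hιsurj, -, hmul⟩ :=
    H78.JField.exists_field (p := p) (M := E i1) (fun m => Subtype.ext (hp _)) K L hK1 hL1 hKL hLK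
      hcard
  choose s hs hslope using hιK
  let ψ : F × F →+ W := (((E i1).subtype.comp e₀.toAddMonoidHom).comp (AddMonoidHom.fst F F)) +
    (((E i0).subtype.comp φ).comp e₀.toAddMonoidHom).comp (AddMonoidHom.snd F F)
  have hψ : Function.Bijective ψ := by
    refine (Nat.bijective_iff_injective_and_card ψ).2 ⟨(injective_iff_map_eq_zero ψ).2 ?_, ?_⟩
    · rintro ⟨x, y⟩ (he : (e₀ x : W) + (φ (e₀ y) : W) = 0)
      have hx0 : (e₀ x : W) = 0 := h.disj i1 i0 h10 _ (e₀ x).2
        (by rw [eq_neg_of_add_eq_zero_left he]; exact (E i0).neg_mem (φ _).2)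
      rw [hx0, zero_add] at he
      have hy0 : φ (e₀ y) = 0 := Subtype.ext he
      exact Prod.ext (e₀.map_eq_zero_iff.1 (Subtype.ext hx0))
        (e₀.map_eq_zero_iff.1 (hφb.1 (hy0.trans (map_zero φ).symm)))
    · rw [Nat.card_prod, Nat.card_congr e₀.toEquiv, h.card_E, h.card_W, pow_two]
  refine ⟨F, hF, hFin, AddEquiv.ofBijective ψ hψ, s, ?_, hs, ?_, ?_, ?_⟩
  · intro i hi
    obtain ⟨c, hc⟩ := hιsurj (ξ ⟨i, hi⟩) ⟨i, hi, hξ ⟨i, hi⟩⟩
    exact ⟨c, huniq (hs c) (hslope c) (hc ▸ hξ ⟨i, hi⟩)⟩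
  · intro c d he
    have h1 : ∀ m, ι c m = ι d m := fun m => hφb.1 (Subtype.ext
      (h.uniq (hs c) (φ _).2 (φ _).2 (hslope c m) (he ▸ hslope d m)))
    have h3 := h1 (e₀ 1)
    rw [← hmul, ← hmul, mul_one, mul_one] at h3
    exact e₀.injective h3
  · intro c x y
    change (e₀ x : W) + (φ (e₀ y) : W) ∈ E (s c) ↔ _
    constructor
    · intro hm
      have h1 : φ (e₀ y) = φ (ι c (e₀ x)) := Subtype.ext
        (h.uniq (hs c) (φ _).2 (φ _).2 hm (hslope c (e₀ x)))
      exact e₀.injective ((hφb.1 h1).trans (hmul c x).symm)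
    · rintro rfl
      rw [hmul]
      exact hslope c (e₀ x)
  · intro x y
    change (e₀ x : W) + (φ (e₀ y) : W) ∈ E i0 ↔ _
    constructor
    · intro hm
      have h1 := (E i0).sub_mem hm (φ (e₀ y)).2
      rw [add_sub_cancel_right] at h1
      exact e₀.map_eq_zero_iff.1 (Subtype.ext (h.disj i1 i0 h10 _ (e₀ x).2 h1))
    · rintro rfl
      rw [map_zero, ZeroMemClass.coe_zero, zero_add]
      exact (φ _).2

end H27.OW
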