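import Cfsg.Agent.H27.OW.Translation
import Cfsg.Agent.H27.OW.Spread

/-!
Coordinates: a plane with a collineation group transitive on ordered pairs of points is the plane
over a field.
-/

set_option autoImplicit false
set_option linter.style.haveILetI false
set_option linter.unusedSectionVars false

namespace H27.OW

open Configuration

/-- The functional `v ↦ a * v 0 + b * v 1 + c * v 2`. -/
def dot3 {F : Type*} [Field F] (a b c : F) : (Fin 3 → F) →ₗ[F] F :=
  a • (LinearMap.proj 0 : (Fin 3 → F) →ₗ[F] F) + b • (LinearMap.proj 1 : (Fin 3 → F) →ₗ[F] F) +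
    c • (LinearMap.proj 2 : (Fin 3 → F) →ₗ[F] F)

theorem dot3_apply {F : Type*} [Field F] (a b c : F) (v : Fin 3 → F) :
    dot3 a b c v = a * v 0 + b * v 1 + c * v 2 := by
  simp [dot3]

theorem finrank_ker_dot3 {F : Type*} [Field F] {a b c : F} (v : Fin 3 → F)
    (h : dot3 a b c v = 1) : Module.finrank F (LinearMap.ker (dot3 a b c)) = 2 := by
  have hr : LinearMap.range (dot3 a b c) = ⊤ :=
    LinearMap.range_eq_top.2 fun x => ⟨x • v, by rw [map_smul, h, smul_eq_mul, mul_one]⟩
  have h1 := (dot3 a b c).finrank_range_add_finrank_ker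
  rw [hr, finrank_top, Module.finrank_self, Module.finrank_fin_fun] at h1
  omega

variable {P L : Type*} [Membership P L] [ProjectivePlane P L] [Finite P] [Finite L]
variable {G : Subgroup (Coll P L)}

/-- **Ostrom-Wagner.** -/
theorem TwoTransPts.desarguesian (h2 : TwoTransPts G) :
    ∃ (F : Type) (_ : Field F) (_ : Fintype F) (φ : P ≃ Projectivization F (Fin 3 → F)),
      (∀ l : L, ∃ W : Submodule F (Fin 3 → F), Module.finrank F W = 2 ∧
          ∀ p : P, p ∈ l ↔ (φ p).submodule ≤ W) ∧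
      (∀ W : Submodule F (Fin 3 → F), Module.finrank F W = 2 →
          ∃ l : L, ∀ p : P, p ∈ l ↔ (φ p).submodule ≤ W) := by
  classical
  obtain ⟨-, -, -, l, -⟩ := (inferInstance : ProjectivePlane P L).exists_config
  obtain ⟨O, hO⟩ := Nondegenerate.exists_point (P := P) l
  obtain ⟨hcomm, ⟨p, hp, hexp⟩, hTc, hEc⟩ := h2.translations l
  haveI : Fact p.Prime := ⟨hp⟩
  set T := G ⊓ trans l with hT
  letI : CommGroup T :=
    { (inferInstance : Group T) with mul_comm := fun a b => Subtype.ext (hcomm a a.2 b b.2) }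
  let E : {A : P // A ∈ l} → AddSubgroup (Additive T) := fun A =>
    Subgroup.toAddSubgroup ((cenGrp A.1).subgroupOf T)
  have hmem : ∀ A w, w ∈ E A ↔ Cen ((Additive.toMul w : T) : Coll P L) A.1 := fun _ _ => Iff.rfl
  have hsp : ShearSpread E (ProjectivePlane.order P L) :=
    { one_lt := ProjectivePlane.one_lt_order P L
      card_W := by rw [← hTc]; exact Nat.card_congr Additive.toMul
      card_I := card_on l
      card_E := fun A => by
        rw [← hEc A.1 A.2]
        exact Nat.card_congr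
          { toFun := fun w => ⟨((Additive.toMul w.1 : T) : Coll P L), (Additive.toMul w.1).2.1, w.2,
              (Additive.toMul w.1).2.2.1⟩
            invFun := fun g => ⟨Additive.ofMul ⟨g.1, g.2.1, persp_le_trans A.2 g.2.2⟩, g.2.2.1⟩
            left_inv := fun _ => rfl
            right_inv := fun _ => rfl }
      disj := fun A B hne w hA hB => by
        apply Additive.toMul.injective
        exact Subtype.ext (eq_one_of_two_cen hA hB fun he => hne (Subtype.ext he))
      shear := by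
        intro b j k hjb hkb
        obtain ⟨y, hOy, hby⟩ := exists_join (L := L) (show O ≠ b.1 from fun he => hO (he ▸ b.2))
        have hly : l ≠ y := fun he => hO (he ▸ hOy)
        obtain ⟨s, ⟨hsG, hsc, hsa⟩, hsj⟩ := h2.elation_transitive (A := b.1) (l := y) (y := l) hby
          b.2 hly j.2 (fun he => hjb (Subtype.ext he)) k.2 (fun he => hkb (Subtype.ext he))
        have hsl : s • l = l := hsc l b.2
        let c : T →* T :=
          { toFun := fun t => ⟨s * t.1 * s⁻¹, G.mul_mem (G.mul_mem hsG t.2.1) (G.inv_mem hsG),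
              trans_conj t.2.2 hsl⟩
            map_one' := Subtype.ext (by simp)
            map_mul' := fun t u => Subtype.ext (by
              show s * (t.1 * u.1) * s⁻¹ = s * t.1 * s⁻¹ * (s * u.1 * s⁻¹)
              group) }
        have hcen : ∀ t : T, Cen (s * t.1 * s⁻¹ * t.1⁻¹) b.1 := fun t => by
          have h1 := cen_conj_of_fix ((cenGrp b.1).inv_mem hsc) (t.2.2.1 b.1 b.2)
          have h3 := (cenGrp b.1).mul_mem hsc h1
          rwa [← mul_assoc, ← mul_assoc] at h3
        refine ⟨c.toAdditive, fun A => ⟨s • A.1, smul_mem_of_mem hsl A.2⟩, fun w hw => ?_,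
          fun w => ?_, fun A w hw => ?_, Subtype.ext hsj⟩
        · apply Additive.toMul.injective
          refine Subtype.ext ?_
          set t : T := Additive.toMul w with ht
          show s * t.1 * s⁻¹ = t.1
          have hZ : (t.1)⁻¹ • O ∈ y := smul_mem_of_mem ((cenGrp b.1).inv_mem hw y hby) hOy
          have hfix : (s * t.1 * s⁻¹ * t.1⁻¹) • O = O := by
            rw [mul_smul, mul_smul, mul_smul, (axisGrp y).inv_mem hsa _ hZ, smul_inv_smul,
              hsa O hOy]
          exact mul_inv_eq_one.1 (trans_fix_off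
            ((trans l).mul_mem (trans_conj t.2.2 hsl) ((trans l).inv_mem t.2.2)) hO hfix)
        · rw [hmem, sub_eq_add_neg]
          exact hcen (Additive.toMul w)
        · rw [hmem]
          exact (show Cen ((Additive.toMul w : T) : Coll P L) A.1 from hw).conj s }
  have hexpW : ∀ w : Additive T, p • w = 0 := fun w => by
    apply Additive.toMul.injective
    exact Subtype.ext (hexp _ (Additive.toMul w).2)
  obtain ⟨A₀, hA₀⟩ := exists_mem (P := P) l
  obtain ⟨A₁, hA₁, h10⟩ := exists_mem_ne l A₀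
  obtain ⟨A₂, hA₂, h20, h21⟩ := exists_mem_ne_ne l A₀ A₁
  obtain ⟨F, hF, hFt, e, s, hs, hs0, hsinj, hline, hline0⟩ := hsp.exists_field hexpW
    (i0 := ⟨A₀, hA₀⟩) (i1 := ⟨A₁, hA₁⟩) (i2 := ⟨A₂, hA₂⟩) (fun he => h10 (congrArg Subtype.val he))
    (fun he => h20 (congrArg Subtype.val he)) (fun he => h21 (congrArg Subtype.val he))
  let θ : F × F → T := fun w => Additive.toMul (e w)
  let pt : F × F → P := fun w => (θ w).1 • O
  have hpt : ∀ w, pt w ∉ l := fun w hmem => hO ((smul_mem_smul (θ w).1 O l).1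
    (by rw [(θ w).2.2.1.smul_line]; exact hmem))
  have hptinj : Function.Injective pt := fun w w' he => by
    have h1 : (θ w')⁻¹ * θ w = 1 := Subtype.ext (trans_fix_off ((θ w')⁻¹ * θ w).2.2 hO
      (by
        show ((θ w').1⁻¹ * (θ w).1) • O = O
        rw [mul_smul, inv_smul_eq_iff]
        exact he))
    exact e.injective (Additive.toMul.injective (inv_mul_eq_one.1 h1).symm)
  have hptsurj : ∀ X : P, X ∉ l → ∃ w, pt w = X := fun X hX => by
    obtain ⟨t, ht, he⟩ := h2.translation_transitive hO hX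
    refine ⟨e.symm (Additive.ofMul ⟨t, ht⟩), ?_⟩
    show (Additive.toMul (e (e.symm (Additive.ofMul (⟨t, ht⟩ : T))))).1 • O = X
    rw [e.apply_symm_apply]
    exact he
  have honline : ∀ (A : {A : P // A ∈ l}) (m : L), A.1 ∈ m → m ≠ l → ∀ w₀, pt w₀ ∈ m → ∀ w,
      (pt w ∈ m ↔ e (w - w₀) ∈ E A) := by
    intro A m hAm hml w₀ hw₀ w
    set t := θ (w - w₀) with ht
    have htw : t.1 • pt w₀ = pt w := by
      show t.1 • ((θ w₀).1 • O) = (θ w).1 • O
      rw [← mul_smul]
      congr 1
      show ((θ (w - w₀) * θ w₀ : T) : Coll P L) = _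
      rw [show θ (w - w₀) * θ w₀ = θ w from by
        show Additive.toMul (e (w - w₀)) * Additive.toMul (e w₀) = Additive.toMul (e w)
        rw [← toMul_add, ← map_add, sub_add_cancel]]
    constructor
    · intro hm
      obtain ⟨u, ⟨huG, huc, hua⟩, he⟩ := h2.elation_transitive A.2 hAm hml hw₀
        (fun h => hpt w₀ (h ▸ A.2)) hm (fun h => hpt w (h ▸ A.2))
      have h1 : u⁻¹ * t.1 = 1 := trans_fix_off
        ((trans l).mul_mem ((trans l).inv_mem (persp_le_trans A.2 ⟨huc, hua⟩)) t.2.2) (hpt w₀)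
        (by rw [mul_smul, htw, inv_smul_eq_iff]; exact he.symm)
      rw [hmem]
      exact (inv_mul_eq_one.1 h1) ▸ huc
    · intro hm
      rw [← htw]
      exact smul_mem_of_mem ((show Cen t.1 A.1 from hm) m hAm) hw₀
  have hrep : ∀ X : P, ∃ v : Fin 3 → F, (∃ w : F × F, pt w = X ∧ v = ![1, w.1, w.2]) ∨
      (∃ c, (s c).1 = X ∧ v = ![0, 1, c]) ∨ (A₀ = X ∧ v = ![0, 0, 1]) := fun X => by
    by_cases hX : X ∈ l
    · by_cases hX0 : X = A₀
      · exact ⟨_, Or.inr (Or.inr ⟨hX0.symm, rfl⟩)⟩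
      · obtain ⟨c, hc⟩ := hs ⟨X, hX⟩ fun he => hX0 (congrArg Subtype.val he)
        exact ⟨_, Or.inr (Or.inl ⟨c, congrArg Subtype.val hc, rfl⟩)⟩
    · obtain ⟨w, hw⟩ := hptsurj X hX
      exact ⟨_, Or.inl ⟨w, hw, rfl⟩⟩
  choose vec hvec using hrep
  have hv1 : ∀ w, vec (pt w) = ![1, w.1, w.2] := fun w => by
    rcases hvec (pt w) with ⟨w', h, h'⟩ | ⟨c, h, -⟩ | ⟨h, -⟩
    · rw [h', hptinj h]
    · exact absurd (h ▸ (s c).2) (hpt w)
    · exact absurd (h ▸ hA₀) (hpt w)
  have hsA : ∀ c, (s c).1 ≠ A₀ := fun c he => hs0 c (Subtype.ext he)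
  have hv2 : ∀ c, vec (s c).1 = ![0, 1, c] := fun c => by
    rcases hvec (s c).1 with ⟨w, h, -⟩ | ⟨c', h, h'⟩ | ⟨h, -⟩
    · exact absurd (h ▸ (s c).2) (hpt w)
    · rw [h', hsinj (Subtype.ext h)]
    · exact absurd h.symm (hsA c)
  have hv3 : vec A₀ = ![0, 0, 1] := by
    rcases hvec A₀ with ⟨w, h, -⟩ | ⟨c', h, -⟩ | ⟨-, h'⟩
    · exact absurd (h ▸ hA₀) (hpt w)
    · exact absurd h (hsA c')
    · exact h'
  have hne : ∀ X, vec X ≠ 0 := fun X => by
    rcases hvec X with ⟨w, -, h'⟩ | ⟨c', -, h'⟩ | ⟨-, h'⟩ <;> rw [h'] <;> intro h0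
    · simpa using congrFun h0 0
    · simpa using congrFun h0 1
    · simpa using congrFun h0 2
  let φ₀ : P → Projectivization F (Fin 3 → F) := fun X => Projectivization.mk F (vec X) (hne X)
  have hφ : Function.Bijective φ₀ := by
    refine ⟨fun X Y he => ?_, fun q => ?_⟩
    · obtain ⟨a, ha⟩ := (Projectivization.mk_eq_mk_iff' F _ _ _ _).1 he
      have e0 := congrFun ha 0
      have e1 := congrFun ha 1
      have e2 := congrFun ha 2
      rcases hvec X with ⟨w, h, h'⟩ | ⟨c, h, h'⟩ | ⟨h, h'⟩ <;>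
        rcases hvec Y with ⟨w', k, k'⟩ | ⟨c', k, k'⟩ | ⟨k, k'⟩ <;>
        simp [h', k'] at e0 e1 e2 <;> subst h <;> subst k
      all_goals first
        | rfl
        | (subst e0; simp at e1 e2; exact absurd e1 zero_ne_one)
        | (subst e0; simp at e1 e2; exact congrArg pt (Prod.ext e1.symm e2.symm))
        | (subst e1; simp at e0 e2; rw [e2])
        | (subst e1; simp at e0 e2)
        | simp_all
    · induction q using Projectivization.ind with
      | h v hv =>
        by_cases h0 : v 0 = 0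
        · by_cases h1 : v 1 = 0
          · refine ⟨A₀, (Projectivization.mk_eq_mk_iff' F _ _ _ _).2 ⟨(v 2)⁻¹, ?_⟩⟩
            have h2' : v 2 ≠ 0 := fun h2' => hv (by ext i; fin_cases i <;> assumption)
            rw [hv3]
            ext i; fin_cases i <;> simp [h0, h1, h2']
          · refine ⟨(s (v 2 / v 1)).1, (Projectivization.mk_eq_mk_iff' F _ _ _ _).2 ⟨(v 1)⁻¹, ?_⟩⟩
            rw [hv2]
            ext i; fin_cases i <;> simp [h0, h1, div_eq_inv_mul]
        · refine ⟨pt (v 1 / v 0, v 2 / v 0),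
            (Projectivization.mk_eq_mk_iff' F _ _ _ _).2 ⟨(v 0)⁻¹, ?_⟩⟩
          rw [hv1]
          ext i; fin_cases i <;> simp [h0, div_eq_inv_mul]
  have hsub : ∀ X (W : Submodule F (Fin 3 → F)),
      (Equiv.ofBijective φ₀ hφ X).submodule ≤ W ↔ vec X ∈ W := fun X W => by
    show (Projectivization.mk F (vec X) (hne X)).submodule ≤ W ↔ _
    rw [Projectivization.submodule_mk, Submodule.span_singleton_le_iff_mem]
  have hlines : ∀ m : L, ∃ W : Submodule F (Fin 3 → F), Module.finrank F W = 2 ∧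
      ∀ X : P, X ∈ m ↔ (Equiv.ofBijective φ₀ hφ X).submodule ≤ W := by
    intro m
    by_cases hml : m = l
    · subst hml
      refine ⟨LinearMap.ker (dot3 1 0 0), finrank_ker_dot3 ![1, 0, 0] (by simp [dot3_apply]),
        fun X => ?_⟩
      rw [hsub, LinearMap.mem_ker, dot3_apply]
      rcases hvec X with ⟨w, h, h'⟩ | ⟨c, h, h'⟩ | ⟨h, h'⟩ <;> rw [h'] <;> subst h <;> simp
      · exact hpt w
      · exact (s c).2
      · exact hA₀
    obtain ⟨A, hAm, hAl⟩ := exists_meet (P := P) hml
    obtain ⟨X₀, hX₀, hX₀A⟩ := exists_mem_ne m A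
    obtain ⟨w₀, rfl⟩ := hptsurj X₀ fun h => hX₀A (point_eq hml hX₀ h hAm hAl)
    have hon : ∀ (B : P), B ∈ l → (B ∈ m ↔ B = A) := fun B hB =>
      ⟨fun h => point_eq hml h hB hAm hAl, fun h => h ▸ hAm⟩
    by_cases hA : A = A₀
    · subst hA
      refine ⟨LinearMap.ker (dot3 (-w₀.1) 1 0),
        finrank_ker_dot3 ![0, 1, 0] (by simp [dot3_apply]), fun X => ?_⟩
      rw [hsub, LinearMap.mem_ker, dot3_apply]
      rcases hvec X with ⟨w, h, h'⟩ | ⟨c, h, h'⟩ | ⟨h, h'⟩ <;> rw [h'] <;> subst h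
      · rw [honline ⟨A, hAl⟩ m hAm hml w₀ hX₀ w, show w - w₀ = (w.1 - w₀.1, w.2 - w₀.2) from rfl,
          hline0, sub_eq_zero]
        simp [neg_add_eq_zero, eq_comm]
      · simp [hon _ (s c).2, hsA c]
      · simp [hAm]
    · obtain ⟨c, hc⟩ := hs ⟨A, hAl⟩ fun he => hA (congrArg Subtype.val he)
      refine ⟨LinearMap.ker (dot3 (-(w₀.2 - c * w₀.1)) (-c) 1),
        finrank_ker_dot3 ![0, 0, 1] (by simp [dot3_apply]), fun X => ?_⟩
      rw [hsub, LinearMap.mem_ker, dot3_apply]
      rcases hvec X with ⟨w, h, h'⟩ | ⟨c', h, h'⟩ | ⟨h, h'⟩ <;> rw [h'] <;> subst h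
      · rw [honline ⟨A, hAl⟩ m hAm hml w₀ hX₀ w, show w - w₀ = (w.1 - w₀.1, w.2 - w₀.2) from rfl,
          ← hc, hline]
        simp only [Matrix.cons_val_zero, Matrix.cons_val_one, Matrix.cons_val, mul_one, one_mul]
        constructor <;> intro h <;> linear_combination h
      · rw [hon _ (s c').2]
        simp only [Matrix.cons_val_zero, Matrix.cons_val_one, Matrix.cons_val, mul_one, one_mul,
          mul_zero, zero_add]
        rw [neg_add_eq_zero]
        constructor
        · intro h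
          exact (hsinj ((Subtype.ext h : s c' = ⟨A, hAl⟩).trans hc.symm)).symm
        · intro h
          rw [← h, hc]
      · simp [hon A₀ hA₀, Ne.symm hA]
  refine ⟨F, hF, hFt, Equiv.ofBijective φ₀ hφ, hlines, fun W hW => ?_⟩
  set φ := Equiv.ofBijective φ₀ hφ with hφdef
  let b := Module.finBasisOfFinrankEq F W hW
  have hb0 : ∀ i, ((b i : W) : Fin 3 → F) ≠ 0 := fun i he =>
    b.ne_zero i (Subtype.ext he)
  let X : Fin 2 → P := fun i => φ.symm (Projectivization.mk F _ (hb0 i))
  have hX : X 0 ≠ X 1 := fun he => by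
    obtain ⟨a, ha⟩ := (Projectivization.mk_eq_mk_iff' F _ _ _ _).1 (φ.symm.injective he)
    have h1 : a • b 1 = b 0 := Subtype.ext ha
    have h3 := congrArg (fun z => b.repr z 0) h1
    simp at h3
  obtain ⟨m, h0, h1⟩ := exists_join (L := L) hX
  obtain ⟨W', hW', hmW⟩ := hlines m
  have hbmem : ∀ i, X i ∈ m := fun i => by fin_cases i <;> assumption
  have hle : W ≤ W' := by
    intro x hx
    have hxb : (⟨x, hx⟩ : W) ∈ Submodule.span F (Set.range b) := by
      rw [b.span_eq]; exact Submodule.mem_top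
    refine Submodule.span_le.2 ?_ (show x ∈ Submodule.span F (W.subtype '' Set.range b) by
      rw [← Submodule.map_span]; exact ⟨_, hxb, rfl⟩)
    rintro _ ⟨_, ⟨i, rfl⟩, rfl⟩
    have h2 := (hmW _).1 (hbmem i)
    rw [Equiv.apply_symm_apply, Projectivization.submodule_mk,
      Submodule.span_singleton_le_iff_mem] at h2
    exact h2
  have hWW : W = W' := Submodule.eq_of_le_of_finrank_eq hle (hW.trans hW'.symm)
  exact ⟨m, fun Z => by rw [hWW]; exact hmW Z⟩

end H27.OW
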