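import Cfsg.Agent.H27.OW.Coll

/-!
A collineation fixes as many points as lines; a group of collineations has as many orbits on
points as on lines. Transitivity consequences of 2-transitivity on points.
-/

set_option autoImplicit false
set_option linter.style.haveILetI false
set_option linter.unusedSectionVars false

namespace H27.OW

open Configuration

/-- Orbit-stabiliser inside a subgroup. -/
theorem card_orbit_mul {G X : Type*} [Group G] [Finite G] [MulAction G X] (A : Subgroup G) (x : X) :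
    Nat.card A =
      Nat.card {y : X // ∃ a ∈ A, a • x = y} * Nat.card ↥(A ⊓ MulAction.stabilizer G x) := by
  have h1 : Nat.card {y : X // ∃ a ∈ A, a • x = y} = Nat.card (MulAction.orbit A x) :=
    Nat.card_congr (Equiv.subtypeEquivRight fun y =>
      ⟨fun ⟨a, ha, h⟩ => ⟨⟨a, ha⟩, h⟩, fun ⟨a, h⟩ => ⟨a, a.2, h⟩⟩)
  have h2 : Nat.card ↥(A ⊓ MulAction.stabilizer G x) = Nat.card (MulAction.stabilizer A x) :=
    Nat.card_congr
      { toFun := fun g => ⟨⟨g.1, g.2.1⟩, g.2.2⟩
        invFun := fun g => ⟨g.1.1, g.1.2, g.2⟩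
        left_inv := fun _ => rfl
        right_inv := fun _ => rfl }
  rw [h1, h2, Subgroup.card_eq_card_quotient_mul_card_subgroup (MulAction.stabilizer A x),
    Nat.card_congr (MulAction.orbitEquivQuotientStabilizer A x)]

theorem card_orbits_le {G X : Type*} [Group G] [MulAction G X] {k : ℕ} (r : Fin k → X)
    (h : ∀ x, ∃ i, ∃ g : G, g • r i = x) :
    Nat.card (MulAction.orbitRel.Quotient G X) ≤ k := by
  have hs : Function.Surjective
      (fun i => (Quotient.mk'' (r i) : MulAction.orbitRel.Quotient G X)) := fun q =>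
    Quotient.inductionOn' q fun x => by
      obtain ⟨i, g, hg⟩ := h x
      exact ⟨i, (Quotient.sound' (MulAction.orbitRel_apply.2 ⟨g, hg⟩)).symm⟩
  simpa using Nat.card_le_card_of_surjective _ hs

theorem le_card_orbits {G X : Type*} [Group G] [MulAction G X] [Finite X] {k : ℕ} (r : Fin k → X)
    (h : ∀ i j, ∀ g : G, g • r i = r j → i = j) :
    k ≤ Nat.card (MulAction.orbitRel.Quotient G X) := by
  have hi : Function.Injective
      (fun i => (Quotient.mk'' (r i) : MulAction.orbitRel.Quotient G X)) := by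
    intro i j hij
    obtain ⟨g, hg⟩ := MulAction.orbitRel_apply.1 (Quotient.exact' hij)
    exact (h j i g hg).symm
  simpa using Nat.card_le_card_of_injective _ hi

theorem sum_fixed {G X : Type*} [Group G] [Fintype G] [MulAction G X] [Finite X] :
    ∑ g : G, Nat.card {x : X // g • x = x} =
      Nat.card (MulAction.orbitRel.Quotient G X) * Nat.card G := by
  classical
  haveI := Fintype.ofFinite X
  haveI : Fintype (MulAction.orbitRel.Quotient G X) := Fintype.ofFinite _
  have h := MulAction.sum_card_fixedBy_eq_card_orbits_mul_card_group G X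
  rw [← Nat.card_eq_fintype_card, ← Nat.card_eq_fintype_card] at h
  rw [← h]
  exact Finset.sum_congr rfl fun g _ => by rw [← Nat.card_eq_fintype_card]; rfl

theorem fix_prod {G X : Type*} [Group G] [MulAction G X] (g : G) :
    Nat.card {x : X × X // g • x = x} =
      Nat.card {x : X // g • x = x} * Nat.card {x : X // g • x = x} := by
  rw [← Nat.card_prod]
  exact Nat.card_congr
    { toFun := fun x => (⟨x.1.1, congrArg Prod.fst x.2⟩, ⟨x.1.2, congrArg Prod.snd x.2⟩)
      invFun := fun x => ⟨(x.1.1, x.2.1), Prod.ext x.1.2 x.2.2⟩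
      left_inv := fun _ => rfl
      right_inv := fun _ => rfl }

variable {P L : Type*} [Membership P L] [ProjectivePlane P L] [Finite P] [Finite L]

theorem fix_count (g : Coll P L) :
    Nat.card {p : P // g • p = p} = Nat.card {l : L // g • l = l} := by
  classical
  haveI := Fintype.ofFinite P
  haveI := Fintype.ofFinite L
  set n := ProjectivePlane.order P L with hn
  have hrow : ∀ p : P, (Finset.univ.filter fun l : L => p ∈ l ∧ g • p ∈ l).card =
      if g • p = p then n + 1 else 1 := by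
    intro p
    split_ifs with h
    · rw [h]
      simp only [and_self]
      rw [← Fintype.card_subtype, ← Nat.card_eq_fintype_card, card_at]
    · rw [Finset.card_eq_one]
      obtain ⟨l, hl, hl'⟩ := exists_join (L := L) (Ne.symm h)
      refine ⟨l, Finset.ext fun m => ?_⟩
      simp only [Finset.mem_filter, Finset.mem_univ, true_and, Finset.mem_singleton]
      exact ⟨fun hm => line_eq (Ne.symm h) hm.1 hm.2 hl hl', fun hm => hm ▸ ⟨hl, hl'⟩⟩
  have hcol : ∀ l : L, (Finset.univ.filter fun p : P => p ∈ l ∧ g • p ∈ l).card =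
      if g • l = l then n + 1 else 1 := by
    intro l
    have hiff : ∀ p : P, g • p ∈ l ↔ p ∈ g⁻¹ • l := fun p => by
      rw [mem_smul, inv_inv]
    split_ifs with h
    · have : (Finset.univ.filter fun p : P => p ∈ l ∧ g • p ∈ l) =
          Finset.univ.filter fun p : P => p ∈ l := by
        ext p
        simp only [Finset.mem_filter, Finset.mem_univ, true_and]
        exact ⟨fun hp => hp.1, fun hp => ⟨hp, smul_mem_of_mem h hp⟩⟩
      rw [this, ← Fintype.card_subtype, ← Nat.card_eq_fintype_card, card_on]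
    · rw [Finset.card_eq_one]
      have hne : g⁻¹ • l ≠ l := fun he => h (by rw [inv_smul_eq_iff] at he; exact he.symm)
      obtain ⟨p, hp, hp'⟩ := exists_meet (P := P) hne
      refine ⟨p, Finset.ext fun q => ?_⟩
      simp only [Finset.mem_filter, Finset.mem_univ, true_and, Finset.mem_singleton, hiff]
      exact ⟨fun hq => point_eq hne hq.2 hq.1 hp hp', fun hq => hq ▸ ⟨hp', hp⟩⟩
  have hswap : ∑ p : P, (Finset.univ.filter fun l : L => p ∈ l ∧ g • p ∈ l).card =
      ∑ l : L, (Finset.univ.filter fun p : P => p ∈ l ∧ g • p ∈ l).card := by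
    simp only [Finset.card_filter]
    exact Finset.sum_comm
  simp only [hrow, hcol] at hswap
  have hs : ∀ (q : Prop) [Decidable q], (if q then n + 1 else 1) = 1 + n * (if q then 1 else 0) := by
    intro q _
    split_ifs <;> simp [add_comm]
  simp only [hs, Finset.sum_add_distrib, ← Finset.mul_sum, Finset.sum_boole, Finset.sum_const,
    smul_eq_mul, mul_one, Nat.cast_id, Finset.card_univ] at hswap
  rw [Nat.card_eq_fintype_card, Nat.card_eq_fintype_card, Fintype.card_subtype,
    Fintype.card_subtype]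
  have hn0 : 0 < n := by
    have := ProjectivePlane.one_lt_order P L
    omega
  have hc := ProjectivePlane.card_points_eq_card_lines P L
  rw [hc] at hswap
  exact Nat.eq_of_mul_eq_mul_left hn0 (Nat.add_left_cancel hswap)

theorem orbits_eq (H : Subgroup (Coll P L)) :
    Nat.card (MulAction.orbitRel.Quotient H P) = Nat.card (MulAction.orbitRel.Quotient H L) := by
  haveI : Fintype H := Fintype.ofFinite _
  refine Nat.eq_of_mul_eq_mul_right (Nat.card_pos (α := H)) ?_
  rw [← sum_fixed, ← sum_fixed]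
  exact Finset.sum_congr rfl fun g _ => fix_count (g : Coll P L)

theorem orbits_pairs_eq (H : Subgroup (Coll P L)) :
    Nat.card (MulAction.orbitRel.Quotient H (P × P)) =
      Nat.card (MulAction.orbitRel.Quotient H (L × L)) := by
  haveI : Fintype H := Fintype.ofFinite _
  refine Nat.eq_of_mul_eq_mul_right (Nat.card_pos (α := H)) ?_
  rw [← sum_fixed, ← sum_fixed]
  refine Finset.sum_congr rfl fun g _ => ?_
  rw [fix_prod, fix_prod, show Nat.card {x : P // g • x = x} = Nat.card {x : L // g • x = x} from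
    fix_count (g : Coll P L)]

/-- Transitivity on ordered pairs of distinct points. -/
def TwoTransPts (H : Subgroup (Coll P L)) : Prop :=
  ∀ p q p' q' : P, p ≠ q → p' ≠ q' → ∃ h ∈ H, h • p = p' ∧ h • q = q'

variable {H : Subgroup (Coll P L)}

theorem TwoTransPts.lines (h2 : TwoTransPts H) {a b a' b' : L} (hab : a ≠ b) (hab' : a' ≠ b') :
    ∃ h ∈ H, h • a = a' ∧ h • b = b' := by
  obtain ⟨p, q, hpq⟩ : ∃ p q : P, p ≠ q := by
    obtain ⟨p, hp⟩ := Nondegenerate.exists_point (P := P) a
    obtain ⟨q, hq⟩ := exists_mem (P := P) a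
    exact ⟨p, q, fun he => hp (he ▸ hq)⟩
  have hle : Nat.card (MulAction.orbitRel.Quotient H (P × P)) ≤ 2 := by
    refine card_orbits_le ![(p, p), (p, q)] fun x => ?_
    by_cases hx : x.1 = x.2
    · obtain ⟨w, hw, -⟩ : ∃ w : P, w ≠ p ∧ True := ⟨q, Ne.symm hpq, trivial⟩
      obtain ⟨q', hq'⟩ : ∃ q', q' ≠ x.1 := by
        by_cases hqx : q = x.1
        · exact ⟨p, hqx ▸ hpq⟩
        · exact ⟨q, hqx⟩
      obtain ⟨g, hg, h1, -⟩ := h2 p q x.1 q' hpq (Ne.symm hq')
      exact ⟨0, ⟨g, hg⟩, Prod.ext h1 (h1.trans hx)⟩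
    · obtain ⟨g, hg, h1, h2'⟩ := h2 p q x.1 x.2 hpq hx
      exact ⟨1, ⟨g, hg⟩, Prod.ext h1 h2'⟩
  by_contra hno
  push Not at hno
  have hge : 3 ≤ Nat.card (MulAction.orbitRel.Quotient H (L × L)) := by
    have hd : ∀ (g : H) (x y : L), g • (x, x) = (y, y) ∨ True := fun _ _ _ => Or.inr trivial
    refine le_card_orbits ![(a, a), (a, b), (a', b')] fun i j g hg => ?_
    have hi : ∀ {x y x' y' : L}, g • (x, y) = (x', y') → (x = y ↔ x' = y') := by
      intro x y x' y' he
      have h1 : g • x = x' := congrArg Prod.fst he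
      have h2 : g • y = y' := congrArg Prod.snd he
      rw [← h1, ← h2]
      exact ⟨fun h => h ▸ rfl, fun h => MulAction.injective g h⟩
    fin_cases i <;> fin_cases j <;> try rfl
    · exact absurd ((hi hg).1 rfl) hab
    · exact absurd ((hi hg).1 rfl) hab'
    · exact absurd ((hi hg).2 rfl) hab
    · exact absurd (congrArg Prod.snd hg) (hno g g.2 (congrArg Prod.fst hg))
    · exact absurd ((hi hg).2 rfl) hab'
    · have h1 : (g⁻¹ : H) • ((a, b) : L × L) = (a', b') := inv_smul_eq_iff.2 hg.symm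
      exact absurd (congrArg Prod.snd h1) (hno (g⁻¹ : H) (g⁻¹ : H).2 (congrArg Prod.fst h1))
  rw [← orbits_pairs_eq] at hge
  omega

theorem TwoTransPts.affine (h2 : TwoTransPts H) {l : L} {X Y : P} (hX : X ∉ l) (hY : Y ∉ l) :
    ∃ h ∈ H, h • l = l ∧ h • X = Y := by
  set A : Subgroup (Coll P L) := H ⊓ MulAction.stabilizer (Coll P L) l with hA
  by_contra hno
  push Not at hno
  obtain ⟨M, hM⟩ := exists_mem (P := P) l
  obtain ⟨N, hN, hNM⟩ := exists_mem_ne l M
  obtain ⟨y, hy, hyl⟩ := exists_through_ne M l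
  have hle : Nat.card (MulAction.orbitRel.Quotient A L) ≤ 2 := by
    refine card_orbits_le ![l, y] fun z => ?_
    by_cases hz : z = l
    · exact ⟨0, 1, by rw [hz]; exact one_smul _ _⟩
    · obtain ⟨g, hg, h1, h2'⟩ := h2.lines (Ne.symm hyl) (Ne.symm hz)
      exact ⟨1, ⟨g, hg, h1⟩, h2'⟩
  have hge : 3 ≤ Nat.card (MulAction.orbitRel.Quotient A P) := by
    refine le_card_orbits ![M, X, Y] fun i j g hg => ?_
    have hgl : (g : Coll P L) • l = l := g.2.2
    have hi : ∀ {x z : P}, g • x = z → (x ∈ l ↔ z ∈ l) := fun {x z} he => by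
      constructor
      · intro hx; rw [← he]; exact smul_mem_of_mem hgl hx
      · intro hz
        have := (smul_mem_smul (g : Coll P L) x l).1 (by rw [hgl]; rw [← he] at hz; exact hz)
        exact this
    fin_cases i <;> fin_cases j <;> try rfl
    · exact absurd ((hi hg).1 hM) hX
    · exact absurd ((hi hg).1 hM) hY
    · exact absurd ((hi hg).2 hM) hX
    · exact absurd hg (hno g g.2.1 hgl)
    · exact absurd ((hi hg).2 hM) hY
    · exact absurd (inv_smul_eq_iff.2 hg.symm) (hno (g⁻¹ : A) (g⁻¹ : A).2.1 (g⁻¹ : A).2.2)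
  rw [orbits_eq] at hge
  omega

theorem TwoTransPts.on_line (h2 : TwoTransPts H) {l : L} {M N N' : P} (hM : M ∈ l) (hN : N ∈ l)
    (hN' : N' ∈ l) (h : M ≠ N) (h' : M ≠ N') : ∃ g ∈ H, g • l = l ∧ g • M = M ∧ g • N = N' := by
  obtain ⟨g, hg, h1, h3⟩ := h2 M N M N' h h'
  refine ⟨g, hg, line_eq h' (smul_mem_of_fix h1 hM) ?_ hM hN', h1, h3⟩
  rw [← h3]
  exact (smul_mem_smul g N l).2 hN

theorem TwoTransPts.affine_stab (h2 : TwoTransPts H) {l : L} {M X Y : P} (hM : M ∈ l)
    (hX : X ∉ l) (hY : Y ∉ l) : ∃ h ∈ H, h • l = l ∧ h • M = M ∧ h • X = Y := by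
  classical
  set n := ProjectivePlane.order P L with hn
  set A : Subgroup (Coll P L) := H ⊓ MulAction.stabilizer (Coll P L) l with hA
  set B : Subgroup (Coll P L) := A ⊓ MulAction.stabilizer (Coll P L) M with hB
  set C : Subgroup (Coll P L) := A ⊓ MulAction.stabilizer (Coll P L) X with hC
  have hAl : ∀ g ∈ A, g • l = l := fun g hg => hg.2
  have e1 : Nat.card {p : P // ∃ a ∈ A, a • X = p} = n ^ 2 := by
    rw [← card_notMem (P := P) l]
    refine Nat.card_congr (Equiv.subtypeEquivRight fun p => ⟨?_, fun hp => ?_⟩)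
    · rintro ⟨a, ha, rfl⟩ hp
      exact hX ((smul_mem_smul a X l).1 (by rw [hAl a ha]; exact hp))
    · obtain ⟨g, hg, h1, h3⟩ := h2.affine hX hp
      exact ⟨g, ⟨hg, h1⟩, h3⟩
  have e2 : Nat.card {p : P // ∃ a ∈ A, a • M = p} = n + 1 := by
    rw [← card_on (P := P) l]
    refine Nat.card_congr (Equiv.subtypeEquivRight fun p => ⟨?_, fun hp => ?_⟩)
    · rintro ⟨a, ha, rfl⟩
      exact smul_mem_of_mem (hAl a ha) hM
    · by_cases hpM : p = M
      · exact ⟨1, one_mem A, by rw [hpM, one_smul]⟩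
      obtain ⟨g, hg, h1, h3⟩ := h2 M p p M (Ne.symm hpM) hpM
      refine ⟨g, ⟨hg, line_eq hpM ?_ ?_ hp hM⟩, h1⟩
      · rw [← h1]; exact (smul_mem_smul g M l).2 hM
      · rw [← h3]; exact (smul_mem_smul g p l).2 hp
  have hAX := card_orbit_mul A X
  have hAM := card_orbit_mul A M
  have hBX := card_orbit_mul B X
  have hCM := card_orbit_mul C M
  have heq : B ⊓ MulAction.stabilizer (Coll P L) X = C ⊓ MulAction.stabilizer (Coll P L) M := by
    rw [hB, hC, inf_right_comm]
  rw [e1, ← hC, hCM, ← heq] at hAX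
  rw [e2, ← hB, hBX] at hAM
  set o := Nat.card {p : P // ∃ b ∈ B, b • X = p} with ho
  set o' := Nat.card {p : P // ∃ c ∈ C, c • M = p} with ho'
  set s := Nat.card ↥(B ⊓ MulAction.stabilizer (Coll P L) X) with hs
  have hs0 : 0 < s := Nat.card_pos
  have hmul : (n + 1) * o = n ^ 2 * o' := by
    refine Nat.eq_of_mul_eq_mul_right hs0 ?_
    rw [mul_assoc, mul_assoc, ← hAM, ← hAX]
  have hdvd : n ^ 2 ∣ o := by
    refine (Nat.Coprime.pow_left 2 ?_).dvd_of_dvd_mul_left (m := n + 1) (hmul ▸ Dvd.intro _ rfl)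
    exact Nat.coprime_self_add_right.2 (Nat.coprime_one_right n)
  by_contra hno
  push Not at hno
  have hlt : o < n ^ 2 := by
    rw [← card_notMem (P := P) l]
    have hsub : ∀ p : P, (∃ b ∈ B, b • X = p) → p ∉ l := by
      rintro p ⟨b, hb, rfl⟩ hp
      exact hX ((smul_mem_smul b X l).1 (by rw [hAl b hb.1]; exact hp))
    refine lt_of_le_of_ne (Nat.card_le_card_of_injective (fun p => ⟨p.1, hsub p.1 p.2⟩)
      fun p q he => Subtype.ext (congrArg (fun z : {p : P // p ∉ l} => z.1) he)) fun he => ?_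
    have hinj : Function.Injective
        (fun p : {p : P // ∃ b ∈ B, b • X = p} => (⟨p.1, hsub p.1 p.2⟩ : {p : P // p ∉ l})) :=
      fun p q he => Subtype.ext (congrArg (fun z : {p : P // p ∉ l} => z.1) he)
    obtain ⟨⟨p, b, hb, hbX⟩, hp⟩ := (hinj.bijective_of_nat_card_le he.ge).2 ⟨Y, hY⟩
    exact hno b hb.1.1 hb.1.2 hb.2 (hbX.trans (congrArg (fun z : {p : P // p ∉ l} => z.1) hp))
  have hpos : 0 < o := by
    haveI : Nonempty {p : P // ∃ b ∈ B, b • X = p} := ⟨⟨X, 1, one_mem B, one_smul _ _⟩⟩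
    exact Nat.card_pos
  exact absurd (Nat.le_of_dvd hpos hdvd) (not_le.2 hlt)

/-- The stabiliser of two points is transitive on the other lines through either of them. -/
theorem TwoTransPts.lines_at (h2 : TwoTransPts H) {l y y' : L} {M N : P} (hM : M ∈ l) (hN : N ∈ l)
    (hMN : M ≠ N) (hy : N ∈ y) (hy' : N ∈ y') (hyl : y ≠ l) (hy'l : y' ≠ l) :
    ∃ h ∈ H, h • M = M ∧ h • N = N ∧ h • y = y' := by
  by_contra hno
  push Not at hno
  set B : Subgroup (Coll P L) :=
    H ⊓ MulAction.stabilizer (Coll P L) l ⊓ MulAction.stabilizer (Coll P L) M with hB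
  obtain ⟨X, hX⟩ := Nondegenerate.exists_point (P := P) l
  have hle : Nat.card (MulAction.orbitRel.Quotient B P) ≤ 3 := by
    refine card_orbits_le ![M, N, X] fun p => ?_
    by_cases hp : p ∈ l
    · by_cases hpM : p = M
      · exact ⟨0, 1, by rw [hpM]; exact one_smul _ _⟩
      · obtain ⟨g, hg, h1, h3, h4⟩ := h2.on_line hM hN hp hMN (Ne.symm hpM)
        exact ⟨1, ⟨g, ⟨hg, h1⟩, h3⟩, h4⟩
    · obtain ⟨g, hg, h1, h3, h4⟩ := h2.affine_stab hM hX hp
      exact ⟨2, ⟨g, ⟨hg, h1⟩, h3⟩, h4⟩
  obtain ⟨m, hm, hml⟩ := exists_through_ne M l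
  have hge : 4 ≤ Nat.card (MulAction.orbitRel.Quotient B L) := by
    refine le_card_orbits ![l, m, y, y'] fun i j g hg => ?_
    have hgl : (g : Coll P L) • l = l := g.2.1.2
    have hgM : (g : Coll P L) • M = M := g.2.2
    have hMy : ∀ z : L, N ∈ z → z ≠ l → M ∉ z := fun z hz hzl hMz =>
      hzl (line_eq hMN hMz hz hM hN)
    have hl : ∀ {z w : L}, g • z = w → (z = l ↔ w = l) := fun {z w} he => by
      rw [← he]
      exact ⟨fun hz => hz ▸ hgl, fun hz => MulAction.injective (g : Coll P L) (hz.trans hgl.symm)⟩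
    have hM' : ∀ {z w : L}, g • z = w → (M ∈ z ↔ M ∈ w) := fun {z w} he => by
      rw [← he]
      constructor
      · exact smul_mem_of_fix hgM
      · intro h
        exact (smul_mem_smul (g : Coll P L) M z).1 (by rw [hgM]; exact h)
    have hfin : ∀ {z w : L}, N ∈ z → N ∈ w → z ≠ l → g • z = w →
        (g : Coll P L) • N = N := fun {z w} hz hw hzl he => by
      refine point_eq (l := (g : Coll P L) • l) (m := (g : Coll P L) • z)
        (fun h => hzl (MulAction.injective (g : Coll P L) h).symm) ((smul_mem_smul _ N l).2 hN)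
        ((smul_mem_smul _ N z).2 hz) (by rw [hgl]; exact hN) (by rw [show (g : Coll P L) • z = w from he]; exact hw)
    fin_cases i <;> fin_cases j <;> try rfl
    · exact absurd ((hl hg).1 rfl) hml
    · exact absurd ((hl hg).1 rfl) hyl
    · exact absurd ((hl hg).1 rfl) hy'l
    · exact absurd ((hl hg).2 rfl) hml
    · exact absurd ((hM' hg).1 hm) (hMy y hy hyl)
    · exact absurd ((hM' hg).1 hm) (hMy y' hy' hy'l)
    · exact absurd ((hl hg).2 rfl) hyl
    · exact absurd ((hM' hg).2 hm) (hMy y hy hyl)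
    · exact absurd hg (hno g g.2.1.1 hgM (hfin hy hy' hyl hg))
    · exact absurd ((hl hg).2 rfl) hy'l
    · exact absurd ((hM' hg).2 hm) (hMy y' hy' hy'l)
    · exact absurd (inv_smul_eq_iff.2 hg.symm) (hno (g⁻¹ : B) (g⁻¹ : B).2.1.1 (g⁻¹ : B).2.2
        (inv_smul_eq_iff.2 (hfin hy' hy hy'l hg).symm))
  rw [← orbits_eq] at hge
  omega

end H27.OW
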