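import Cfsg.Agent.H27.OW.Invol

/-!
The fixed subplane of a group with a fixed quadrangle, the action of its normalizer, and the
order of the fixed subplane of a 2-group.
-/

set_option autoImplicit false
set_option linter.style.haveILetI false
set_option linter.unusedSectionVars false

namespace H27.OW

open Configuration

variable {P L : Type*} [Membership P L]

/-- Points fixed by `R`. -/
abbrev FixPt (R : Subgroup (Coll P L)) : Type _ := {p : P // ∀ g ∈ R, g • p = p}

/-- Lines fixed by `R`. -/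
abbrev FixLn (R : Subgroup (Coll P L)) : Type _ := {l : L // ∀ g ∈ R, g • l = l}

instance fixMembership (R : Subgroup (Coll P L)) : Membership (FixPt R) (FixLn R) :=
  ⟨fun l p => p.1 ∈ l.1⟩

theorem fix_mem {R : Subgroup (Coll P L)} {p : FixPt R} {l : FixLn R} : p ∈ l ↔ p.1 ∈ l.1 :=
  Iff.rfl

variable [ProjectivePlane P L] [Finite P] [Finite L]

instance fixPtFinite (R : Subgroup (Coll P L)) : Finite (FixPt R) :=
  inferInstanceAs (Finite {p : P // ∀ g ∈ R, g • p = p})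

instance fixLnFinite (R : Subgroup (Coll P L)) : Finite (FixLn R) :=
  inferInstanceAs (Finite {l : L // ∀ g ∈ R, g • l = l})

/-- The fixed structure is a projective plane when it contains a quadrangle. -/
@[reducible] noncomputable def fixPlane {R : Subgroup (Coll P L)} (h : Quad R) :
    ProjectivePlane (FixPt R) (FixLn R) where
  exists_point l := by
    obtain ⟨A, B, C, D, hA, hB, hC, hD, hq⟩ := h
    obtain ⟨X, -, -, hX, -, hX', -⟩ := hq.two_off l.1
    rcases hX' with rfl | rfl | rfl | rfl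
    exacts [⟨⟨_, hA⟩, hX⟩, ⟨⟨_, hB⟩, hX⟩, ⟨⟨_, hC⟩, hX⟩, ⟨⟨_, hD⟩, hX⟩]
  exists_line p := by
    classical
    obtain ⟨A, B, C, D, hA, hB, hC, hD, hq⟩ := h
    have key : ∀ X Y : P, (∀ g ∈ R, g • X = X) → (∀ g ∈ R, g • Y = Y) → X ≠ Y →
        ∃ l : FixLn R, X ∈ l.1 ∧ Y ∈ l.1 := fun X Y hX hY hne => by
      obtain ⟨l, h1, h2⟩ := exists_join (L := L) hne
      exact ⟨⟨l, fun g hg => smul_eq_of_two hne h1 h2 (hX g hg) (hY g hg)⟩, h1, h2⟩
    have hAB : A ≠ B := fun he => by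
      subst he
      obtain ⟨l, h1, h2⟩ := exists_join' (L := L) A C
      exact (hq l).1 ⟨h1, h1, h2⟩
    have hCD : C ≠ D := fun he => by
      subst he
      obtain ⟨l, h1, h2⟩ := exists_join' (L := L) A C
      exact (hq l).2.2.1 ⟨h1, h2, h2⟩
    have hAC : A ≠ C := fun he => by
      subst he
      obtain ⟨l, h1, h2⟩ := exists_join' (L := L) A B
      exact (hq l).1 ⟨h1, h2, h1⟩
    obtain ⟨l₁, h11, h12⟩ := key A B hA hB hAB
    obtain ⟨l₂, h21, h22⟩ := key C D hC hD hCD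
    obtain ⟨l₃, h31, h32⟩ := key A C hA hC hAC
    by_contra hall
    push Not at hall
    have h13 : l₁.1 ≠ l₃.1 := fun he => (hq l₁.1).1 ⟨h11, h12, he ▸ h32⟩
    have h23 : l₂.1 ≠ l₃.1 := fun he => (hq l₂.1).2.2.1 ⟨he ▸ h31, h21, h22⟩
    have e1 : p.1 = A := point_eq h13 (hall l₁) (hall l₃) h11 h31
    have e2 : p.1 = C := point_eq h23 (hall l₂) (hall l₃) h21 h32
    exact hAC (e1.symm.trans e2)
  eq_or_eq {p q l m} h1 h2 h3 h4 :=
    (Nondegenerate.eq_or_eq (fix_mem.1 h1) (fix_mem.1 h2) (fix_mem.1 h3) (fix_mem.1 h4)).imp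
      (fun e => Subtype.ext e) (fun e => Subtype.ext e)
  mkPoint {l m} hlm := ⟨HasPoints.mkPoint (P := P) (fun e : l.1 = m.1 => hlm (Subtype.ext e)),
    fun g hg => by
      have hne : l.1 ≠ m.1 := fun e => hlm (Subtype.ext e)
      exact smul_eq_of_two' hne (HasPoints.mkPoint_ax (P := P) hne).1
        (HasPoints.mkPoint_ax (P := P) hne).2 (l.2 g hg) (m.2 g hg)⟩
  mkPoint_ax {l m} hlm := HasPoints.mkPoint_ax (P := P) (fun e : l.1 = m.1 => hlm (Subtype.ext e))
  mkLine {p q} hpq := ⟨HasLines.mkLine (L := L) (fun e : p.1 = q.1 => hpq (Subtype.ext e)),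
    fun g hg => by
      have hne : p.1 ≠ q.1 := fun e => hpq (Subtype.ext e)
      exact smul_eq_of_two hne (HasLines.mkLine_ax (L := L) hne).1
        (HasLines.mkLine_ax (L := L) hne).2 (p.2 g hg) (q.2 g hg)⟩
  mkLine_ax {p q} hpq := HasLines.mkLine_ax (L := L) (fun e : p.1 = q.1 => hpq (Subtype.ext e))
  exists_config := by
    obtain ⟨A, B, C, D, hA, hB, hC, hD, hq⟩ := h
    have key : ∀ X Y : P, (∀ g ∈ R, g • X = X) → (∀ g ∈ R, g • Y = Y) → X ≠ Y →
        ∃ l : FixLn R, X ∈ l.1 ∧ Y ∈ l.1 := fun X Y hX hY hne => by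
      obtain ⟨l, h1, h2⟩ := exists_join (L := L) hne
      exact ⟨⟨l, fun g hg => smul_eq_of_two hne h1 h2 (hX g hg) (hY g hg)⟩, h1, h2⟩
    have hBC : B ≠ C := fun he => by
      subst he
      obtain ⟨l, h1, h2⟩ := exists_join' (L := L) A B
      exact (hq l).1 ⟨h1, h2, h2⟩
    have hBD : B ≠ D := fun he => by
      subst he
      obtain ⟨l, h1, h2⟩ := exists_join' (L := L) A B
      exact (hq l).2.1 ⟨h1, h2, h2⟩
    have hAD : A ≠ D := fun he => by
      subst he
      obtain ⟨l, h1, h2⟩ := exists_join' (L := L) A B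
      exact (hq l).2.1 ⟨h1, h2, h1⟩
    obtain ⟨l₂, h2b, h2c⟩ := key B C hB hC hBC
    obtain ⟨l₃, h3b, h3d⟩ := key B D hB hD hBD
    obtain ⟨l₁, h1a, h1d⟩ := key A D hA hD hAD
    refine ⟨⟨A, hA⟩, ⟨B, hB⟩, ⟨C, hC⟩, l₁, l₂, l₃, fun hh => ?_, fun hh => ?_, fun hh => ?_, h2b,
      h3b, fun hh => ?_, h2c, fun hh => ?_⟩
    · exact (hq l₂.1).1 ⟨hh, h2b, h2c⟩
    · exact (hq l₃.1).2.1 ⟨hh, h3b, h3d⟩
    · exact (hq l₁.1).2.1 ⟨h1a, hh, h1d⟩
    · exact (hq l₁.1).2.2.1 ⟨h1a, hh, h1d⟩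
    · exact (hq l₃.1).2.2.2 ⟨h3b, hh, h3d⟩

variable {R : Subgroup (Coll P L)}

theorem card_fix_on [ProjectivePlane (FixPt R) (FixLn R)] (l : FixLn R) :
    Nat.card {p : P // p ∈ l.1 ∧ ∀ g ∈ R, g • p = p} =
      ProjectivePlane.order (FixPt R) (FixLn R) + 1 := by
  rw [← card_on (P := FixPt R) l]
  exact Nat.card_congr
    { toFun := fun p => ⟨⟨p.1, p.2.2⟩, p.2.1⟩
      invFun := fun p => ⟨p.1.1, p.2, p.1.2⟩
      left_inv := fun _ => rfl
      right_inv := fun _ => rfl }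

theorem normalizer_fix_point {x : Coll P L} (hx : x ∈ Subgroup.normalizer (R : Set (Coll P L)))
    {p : P} (hp : ∀ g ∈ R, g • p = p) : ∀ g ∈ R, g • x • p = x • p := fun g hg => by
  have h1 := hp (x⁻¹ * g * x) ((Subgroup.mem_normalizer_iff''.1 hx g).1 hg)
  rw [mul_smul, mul_smul, inv_smul_eq_iff] at h1
  exact h1

theorem normalizer_fix_line {x : Coll P L} (hx : x ∈ Subgroup.normalizer (R : Set (Coll P L)))
    {l : L} (hl : ∀ g ∈ R, g • l = l) : ∀ g ∈ R, g • x • l = x • l := fun g hg => by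
  have h1 := hl (x⁻¹ * g * x) ((Subgroup.mem_normalizer_iff''.1 hx g).1 hg)
  rw [mul_smul, mul_smul, inv_smul_eq_iff] at h1
  exact h1

/-- The action of the normalizer of `R` on the fixed structure. -/
def resHom (R : Subgroup (Coll P L)) :
    ↥(Subgroup.normalizer (R : Set (Coll P L))) →* Coll (FixPt R) (FixLn R) where
  toFun x :=
    ⟨({ toFun := fun p => ⟨(x : Coll P L) • p.1, normalizer_fix_point x.2 p.2⟩
        invFun := fun p => ⟨(x : Coll P L)⁻¹ • p.1, normalizer_fix_point (inv_mem x.2) p.2⟩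
        left_inv := fun p => Subtype.ext (inv_smul_smul _ _)
        right_inv := fun p => Subtype.ext (smul_inv_smul _ _) },
      { toFun := fun l => ⟨(x : Coll P L) • l.1, normalizer_fix_line x.2 l.2⟩
        invFun := fun l => ⟨(x : Coll P L)⁻¹ • l.1, normalizer_fix_line (inv_mem x.2) l.2⟩
        left_inv := fun l => Subtype.ext (inv_smul_smul _ _)
        right_inv := fun l => Subtype.ext (smul_inv_smul _ _) }),
      fun p l => (x : Coll P L).2 p.1 l.1⟩
  map_one' := rfl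
  map_mul' _ _ := rfl

theorem resHom_smul (x : ↥(Subgroup.normalizer (R : Set (Coll P L)))) (p : FixPt R) :
    (resHom R x • p).1 = (x : Coll P L) • p.1 := rfl

theorem resHom_smul_line (x : ↥(Subgroup.normalizer (R : Set (Coll P L)))) (l : FixLn R) :
    (resHom R x • l).1 = (x : Coll P L) • l.1 := rfl

/-- A 2-group fixing a quadrangle: `n` is a `2 ^ i`-th power of the order of its fixed subplane. -/
theorem order_chain (k : ℕ) : ∀ (R : Subgroup (Coll P L)), Nat.card R = 2 ^ k → ∀ h : Quad R,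
    ∃ i : ℕ, ProjectivePlane.order P L =
      (@ProjectivePlane.order (FixPt R) (FixLn R) _ (fixPlane h)) ^ (2 ^ i) := by
  induction k with
  | zero =>
    intro R hR h
    letI := fixPlane h
    have hbot : R = ⊥ := Subgroup.card_eq_one.1 (by rw [hR, pow_zero])
    refine ⟨0, ?_⟩
    obtain ⟨q, -⟩ := Nondegenerate.exists_line (L := FixLn R)
      (⟨(h.choose), h.choose_spec.choose_spec.choose_spec.choose_spec.1⟩ : FixPt R)
    have h1 := card_fix_on (R := R) q
    have h2 := card_on (P := P) q.1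
    rw [pow_zero, pow_one]
    have h3 : Nat.card {p : P // p ∈ q.1 ∧ ∀ g ∈ R, g • p = p} = Nat.card {p : P // p ∈ q.1} :=
      Nat.card_congr (Equiv.subtypeEquivRight fun p => ⟨fun hp => hp.1, fun hp => ⟨hp, fun g hg => by
        rw [hbot, Subgroup.mem_bot] at hg
        rw [hg, one_smul]⟩⟩)
    omega
  | succ k ih =>
    intro R hR h
    haveI : Fact (Nat.Prime 2) := ⟨Nat.prime_two⟩
    obtain ⟨K₀, hK₀⟩ := Sylow.exists_subgroup_card_pow_prime 2
      (show 2 ^ k ∣ Nat.card R by rw [hR]; exact pow_dvd_pow 2 (Nat.le_succ k))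
    set K : Subgroup (Coll P L) := K₀.map R.subtype with hK
    have hKR : K ≤ R := Subgroup.map_subtype_le K₀
    have hKc : Nat.card K = 2 ^ k := by
      rw [← hK₀]
      exact Nat.card_congr (Subgroup.equivMapOfInjective K₀ R.subtype R.subtype_injective).toEquiv.symm
    have hidx : K₀.index = 2 := by
      have := K₀.card_mul_index
      rw [hK₀, hR, pow_succ] at this
      exact Nat.eq_of_mul_eq_mul_left (by positivity) this
    haveI : K₀.Normal := Subgroup.normal_of_index_eq_two hidx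
    obtain ⟨⟨x, hxR⟩, hx⟩ : ∃ x : R, x ∉ K₀ := by
      by_contra hall
      push Not at hall
      rw [(Subgroup.eq_top_iff' K₀).2 hall, Subgroup.index_top] at hidx
      omega
    have hxK : x ∈ Subgroup.normalizer (K : Set (Coll P L)) := by
      rw [Subgroup.mem_normalizer_iff]
      intro y
      constructor
      · intro hy
        obtain ⟨y₀, hy₀, rfl⟩ := hy
        exact ⟨⟨x, hxR⟩ * y₀ * ⟨x, hxR⟩⁻¹, Subgroup.Normal.conj_mem inferInstance y₀ hy₀ _, rfl⟩
      · intro hy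
        obtain ⟨y₀, hy₀, he⟩ := hy
        refine ⟨⟨x, hxR⟩⁻¹ * y₀ * ⟨x, hxR⟩, ?_, ?_⟩
        · simpa using Subgroup.Normal.conj_mem inferInstance y₀ hy₀ (⟨x, hxR⟩⁻¹ : R)
        · show x⁻¹ * (y₀ : Coll P L) * x = y
          rw [show (y₀ : Coll P L) = x * y * x⁻¹ from he]
          group
    have hfix : ∀ p : P, (∀ g ∈ R, g • p = p) ↔ (∀ g ∈ K, g • p = p) ∧ x • p = p := by
      refine fun p => ⟨fun hp => ⟨fun g hg => hp g (hKR hg), hp x hxR⟩, fun hp g hg => ?_⟩
      by_cases hgK : (⟨g, hg⟩ : R) ∈ K₀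
      · exact hp.1 g ⟨_, hgK, rfl⟩
      · have hmem : (⟨x, hxR⟩⁻¹ * ⟨g, hg⟩ : R) ∈ K₀ := by
          rw [Subgroup.mul_mem_iff_of_index_two hidx]
          simp [hx, hgK]
        have h1 := hp.1 _ ⟨_, hmem, rfl⟩
        change (x⁻¹ * g) • p = p at h1
        rw [mul_smul, inv_smul_eq_iff] at h1
        rw [h1, hp.2]
    have hQK : Quad K := h.mono hKR
    obtain ⟨i, hi⟩ := ih K hKc hQK
    letI := fixPlane h
    letI := fixPlane hQK
    set σ := resHom K ⟨x, hxK⟩ with hσ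
    have hσ2 : σ * σ = 1 := by
      rw [hσ, ← map_mul]
      refine eq_one_of_forall fun p => Subtype.ext ?_
      rw [resHom_smul]
      refine p.2 _ ?_
      have hsq : (⟨x, hxR⟩ * ⟨x, hxR⟩ : R) ∈ K₀ := Subgroup.mul_self_mem_of_index_two hidx _
      exact ⟨_, hsq, rfl⟩
    obtain ⟨A, B, C, D, hA, hB, hC, hD, hq⟩ := id h
    have hAB : A ≠ B := fun he => by
      subst he
      obtain ⟨l, h1, h2⟩ := exists_join' (L := L) A C
      exact (hq l).1 ⟨h1, h1, h2⟩
    obtain ⟨l, hAl, hBl⟩ := exists_join (L := L) hAB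
    let lR : FixLn R := ⟨l, fun g hg => smul_eq_of_two hAB hAl hBl (hA g hg) (hB g hg)⟩
    let lK : FixLn K := ⟨l, fun g hg => lR.2 g (hKR hg)⟩
    have hcR := card_fix_on (R := R) lR
    by_cases h1 : σ = 1
    · have hcK := card_fix_on (R := K) lK
      refine ⟨i, ?_⟩
      have he : Nat.card {p : P // p ∈ l ∧ ∀ g ∈ R, g • p = p} =
          Nat.card {p : P // p ∈ l ∧ ∀ g ∈ K, g • p = p} := by
        refine Nat.card_congr (Equiv.subtypeEquivRight fun p => and_congr_right fun _ => ?_)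
        rw [hfix]
        refine ⟨And.left, fun hp => ⟨hp, ?_⟩⟩
        have := congrArg (fun τ : Coll (FixPt K) (FixLn K) => (τ • (⟨p, hp⟩ : FixPt K)).1) h1
        exact this
      rw [hi]
      congr 1
      change Nat.card {p : P // p ∈ l ∧ ∀ g ∈ R, g • p = p} = _ at hcR
      change Nat.card {p : P // p ∈ l ∧ ∀ g ∈ K, g • p = p} = _ at hcK
      omega
    · have hno : ∀ a, ¬ Axis σ a := by
        intro a ha
        apply h1
        refine Quad.no_axis (R := Subgroup.zpowers σ) ?_ (Subgroup.mem_zpowers σ) ha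
        have hfx : ∀ {Q : P} (hQ : ∀ g ∈ R, g • Q = Q), ∀ τ ∈ Subgroup.zpowers σ,
            τ • (⟨Q, fun g hg => hQ g (hKR hg)⟩ : FixPt K) = ⟨Q, fun g hg => hQ g (hKR hg)⟩ :=
          fun {Q} hQ τ hτ => (Subgroup.zpowers_le.2 (MulAction.mem_stabilizer_iff.2
            (Subtype.ext (hQ x hxR))) : Subgroup.zpowers σ ≤ MulAction.stabilizer _ _) hτ
        refine ⟨⟨A, fun g hg => hA g (hKR hg)⟩, ⟨B, fun g hg => hB g (hKR hg)⟩,
          ⟨C, fun g hg => hC g (hKR hg)⟩, ⟨D, fun g hg => hD g (hKR hg)⟩, hfx hA, hfx hB, hfx hC,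
          hfx hD, fun m => ⟨fun hh => (hq m.1).1 hh, fun hh => (hq m.1).2.1 hh,
            fun hh => (hq m.1).2.2.1 hh, fun hh => (hq m.1).2.2.2 hh⟩⟩
      obtain ⟨m, -, hm2, hml, -⟩ := baer hσ2 h1 hno
      refine ⟨i + 1, ?_⟩
      have hl' : σ • lK = lK := Subtype.ext (lR.2 x hxR)
      have h3 := hml lK hl'
      have he : Nat.card {p : FixPt K // p ∈ lK ∧ σ • p = p} =
          Nat.card {p : P // p ∈ l ∧ ∀ g ∈ R, g • p = p} :=
        Nat.card_congr
          { toFun := fun p => ⟨p.1.1, p.2.1, (hfix p.1.1).2 ⟨p.1.2, congrArg Subtype.val p.2.2⟩⟩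
            invFun := fun p => ⟨⟨p.1, ((hfix p.1).1 p.2.2).1⟩, p.2.1,
              Subtype.ext ((hfix p.1).1 p.2.2).2⟩
            left_inv := fun _ => rfl
            right_inv := fun _ => rfl }
      have hr : ProjectivePlane.order (FixPt R) (FixLn R) = m := by
        change Nat.card {p : P // p ∈ l ∧ ∀ g ∈ R, g • p = p} = _ at hcR
        omega
      rw [hi, hm2, hr, ← pow_mul, pow_succ']

end H27.OW
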