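import Cfsg.Agent.H27.OW.Persp

/-!
A plane of odd order in which any two points are fixed by an involution of `H`, all involutions of
`H` being homologies, has prime power order.
-/

set_option autoImplicit false
set_option linter.style.haveILetI false
set_option linter.unusedSectionVars false

namespace H27.OW

open Configuration

theorem invol_parity {X : Type*} [Fintype X] [DecidableEq X] (f : X → X) (S : Finset X)
    (hS : ∀ x ∈ S, f x ∈ S) (hff : ∀ x ∈ S, f (f x) = x) :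
    S.card % 2 = (S.filter fun x => f x = x).card % 2 := by
  have h0 : ((S.filter fun x => ¬ f x = x).card : ZMod 2) = 0 := by
    rw [Finset.card_eq_sum_ones, Nat.cast_sum]
    refine Finset.sum_involution (fun x _ => f x) ?_ ?_ ?_ ?_
    · intro _ _; decide
    · intro x hx _; exact (Finset.mem_filter.1 hx).2
    · intro x hx
      obtain ⟨hxS, hne⟩ := Finset.mem_filter.1 hx
      exact Finset.mem_filter.2 ⟨hS x hxS, fun he => hne (by rw [hff x hxS] at he; exact he.symm)⟩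
    · intro x hx; exact hff x (Finset.mem_filter.1 hx).1
  have h1 := (ZMod.natCast_eq_zero_iff_even (n := _)).1 h0
  have h2 := Finset.card_filter_add_card_filter_not (s := S) (fun x => f x = x)
  rw [Nat.even_iff] at h1
  omega

variable {P L : Type*} [Membership P L] [ProjectivePlane P L] [Finite P] [Finite L]

/-- `H` has an involutory homology with centre `C` and axis `a`. -/
def Hom (H : Subgroup (Coll P L)) (C : P) (a : L) : Prop :=
  ∃ h ∈ H, h * h = 1 ∧ h ≠ 1 ∧ Cen h C ∧ Axis h a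

/-- All involutions of `H` are homologies. -/
def AllHom (H : Subgroup (Coll P L)) : Prop :=
  ∀ h ∈ H, h * h = 1 → h ≠ 1 → ∃ (C : P) (a : L), C ∉ a ∧ Cen h C ∧ Axis h a

/-- Any two points are fixed by some involution of `H`. -/
def PairsFixed (H : Subgroup (Coll P L)) : Prop :=
  ∀ A B : P, A ≠ B → ∃ h ∈ H, h * h = 1 ∧ h ≠ 1 ∧ h • A = A ∧ h • B = B

variable {H : Subgroup (Coll P L)}

theorem AllHom.notMem (hh : AllHom H) {C : P} {a : L} (h : Hom H C a) : C ∉ a := by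
  obtain ⟨g, hg, hg2, hg1, hc, ha⟩ := h
  obtain ⟨C', a', hn, hc', ha'⟩ := hh g hg hg2 hg1
  rw [cen_unique hg1 hc hc', axis_unique hg1 ha ha']
  exact hn

theorem hom_conj {C : P} {a : L} (h : Hom H C a) {x : Coll P L} (hx : x ∈ H) :
    Hom H (x • C) (x • a) := by
  obtain ⟨g, hg, hg2, hg1, hc, ha⟩ := h
  refine ⟨x * g * x⁻¹, mul_mem (mul_mem hx hg) (inv_mem hx), ?_, fun he => hg1 ?_, hc.conj x,
    ha.conj x⟩
  · rw [show x * g * x⁻¹ * (x * g * x⁻¹) = x * (g * g) * x⁻¹ by group, hg2, mul_one, mul_inv_cancel]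
  · simpa [mul_inv_eq_one, mul_eq_left] using he

/-- An involution of `H` fixing `B` fixes one of the (odd number of) axes for the centre `B`. -/
theorem AllHom.fixes_axis (hh : AllHom H) {B : P} {y : L} (hy : Hom H B y) {x : Coll P L}
    (hx : x ∈ H) (hx2 : x * x = 1) (hxB : x • B = B) : ∃ y', Hom H B y' ∧ x • y' = y' := by
  classical
  haveI := Fintype.ofFinite L
  set S := Finset.univ.filter fun y' : L => Hom H B y' with hSdef
  have hmap : ∀ w ∈ H, w • B = B → ∀ z ∈ S, w • z ∈ S := fun w hw hwB z hz => by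
    simp only [hSdef, Finset.mem_filter, Finset.mem_univ, true_and] at hz ⊢
    have h1 := hom_conj hz hw
    rwa [hwB] at h1
  obtain ⟨g, hg, hg2, hg1, hc, ha⟩ := hy
  have hodd := invol_parity (fun z => g • z) S (hmap g hg hc.smul_point)
    fun z _ => by rw [smul_smul, hg2, one_smul]
  have hfix : (S.filter fun z => g • z = z) = {y} := by
    ext z
    simp only [Finset.mem_filter, Finset.mem_singleton, hSdef, Finset.mem_univ, true_and]
    constructor
    · rintro ⟨hz, hgz⟩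
      exact (line_cases ha hc hg1 hgz).resolve_right (hh.notMem hz)
    · rintro rfl
      exact ⟨⟨g, hg, hg2, hg1, hc, ha⟩, ha.smul_line⟩
  rw [hfix, Finset.card_singleton] at hodd
  have hpar := invol_parity (fun z => x • z) S (hmap x hx hxB)
    fun z _ => by rw [smul_smul, hx2, one_smul]
  obtain ⟨y', hy'⟩ : (S.filter fun z => x • z = z).Nonempty := by
    rw [← Finset.card_pos]
    omega
  simp only [Finset.mem_filter, Finset.mem_univ, true_and, hSdef] at hy'
  exact ⟨y', hy'.1, hy'.2⟩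

/-- An involution of `H` fixing `y` fixes one of the (odd number of) centres for the axis `y`. -/
theorem AllHom.fixes_centre (hh : AllHom H) {B : P} {y : L} (hy : Hom H B y) {x : Coll P L}
    (hx : x ∈ H) (hx2 : x * x = 1) (hxy : x • y = y) : ∃ B', Hom H B' y ∧ x • B' = B' := by
  classical
  haveI := Fintype.ofFinite P
  set S := Finset.univ.filter fun B' : P => Hom H B' y with hSdef
  have hmap : ∀ w ∈ H, w • y = y → ∀ z ∈ S, w • z ∈ S := fun w hw hwy z hz => by
    simp only [hSdef, Finset.mem_filter, Finset.mem_univ, true_and] at hz ⊢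
    have h1 := hom_conj hz hw
    rwa [hwy] at h1
  obtain ⟨g, hg, hg2, hg1, hc, ha⟩ := hy
  have hodd := invol_parity (fun z => g • z) S (hmap g hg ha.smul_line)
    fun z _ => by rw [smul_smul, hg2, one_smul]
  have hfix : (S.filter fun z => g • z = z) = {B} := by
    ext z
    simp only [Finset.mem_filter, Finset.mem_singleton, hSdef, Finset.mem_univ, true_and]
    constructor
    · rintro ⟨hz, hgz⟩
      exact (point_cases ha hc hg1 hgz).resolve_left (hh.notMem hz)
    · rintro rfl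
      exact ⟨⟨g, hg, hg2, hg1, hc, ha⟩, hc.smul_point⟩
  rw [hfix, Finset.card_singleton] at hodd
  have hpar := invol_parity (fun z => x • z) S (hmap x hx hxy)
    fun z _ => by rw [smul_smul, hx2, one_smul]
  obtain ⟨B', hB'⟩ : (S.filter fun z => x • z = z).Nonempty := by
    rw [← Finset.card_pos]
    omega
  simp only [Finset.mem_filter, Finset.mem_univ, true_and, hSdef] at hB'
  exact ⟨B', hB'.1, hB'.2⟩

/-- If `B` is a centre on the axis of `(C, a)`, then some axis for `B` passes through `C`. -/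
theorem AllHom.symm (hh : AllHom H) {C B : P} {a y : L} (h : Hom H C a) (hB : B ∈ a)
    (hy : Hom H B y) : ∃ y', Hom H B y' ∧ C ∈ y' := by
  obtain ⟨g, hg, hg2, hg1, hc, ha⟩ := h
  obtain ⟨y', hy', hgy'⟩ := hh.fixes_axis hy hg hg2 (ha B hB)
  refine ⟨y', hy', (line_cases ha hc hg1 hgy').resolve_left fun he => ?_⟩
  exact hh.notMem hy' (he ▸ hB)

/-- Two involutory homologies each centred on the axis of the other give a third one. -/
theorem AllHom.third (hh : AllHom H) {C C' Q : P} {a a' y : L} (h : Hom H C a) (h' : Hom H C' a')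
    (hC'a : C' ∈ a) (hCa' : C ∈ a') (hQ : Q ∈ a) (hQ' : Q ∈ a') (hCy : C ∈ y) (hC'y : C' ∈ y) :
    Hom H Q y := by
  classical
  have hCa := hh.notMem h
  have hC'a' := hh.notMem h'
  obtain ⟨g, hg, hg2, hg1, hc, ha⟩ := h
  have hgC' : g • C' = C' := ha C' hC'a
  have hga' : g • a' = a' := hc a' hCa'
  haveI : Fintype (Coll P L) := Fintype.ofFinite _
  set K := H ⊓ perspGrp C' a' with hK
  obtain ⟨g₁, hg₁, hg₁2, hg₁1, hc₁, ha₁⟩ := h'
  have hg₁K : g₁ ∈ K := ⟨hg₁, hc₁, ha₁⟩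
  set U := Finset.univ.filter fun x : Coll P L => x ∈ K with hU
  have hUeven : U.card % 2 = 0 := by
    rw [hU, ← Fintype.card_subtype, ← Nat.card_eq_fintype_card]
    have h1 : orderOf g₁ = 2 := orderOf_eq_prime (by rw [pow_two]; exact hg₁2) hg₁1
    exact Nat.mod_eq_zero_of_dvd (h1 ▸ K.orderOf_dvd_natCard hg₁K)
  set I := U.filter fun x => x⁻¹ = x with hI
  have hIeven : I.card % 2 = 0 := by
    rw [hI, ← invol_parity (fun x => x⁻¹) U (fun x hx => by
      simp only [hU, Finset.mem_filter, Finset.mem_univ, true_and] at hx ⊢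
      exact inv_mem hx) (fun x _ => inv_inv x), hUeven]
  set S := I.erase 1 with hS
  have hSodd : S.card % 2 = 1 := by
    have h1 : (1 : Coll P L) ∈ I := by simp [hI, hU, one_mem]
    rw [hS, Finset.card_erase_of_mem h1]
    have h2 : 0 < I.card := Finset.card_pos.2 ⟨1, h1⟩
    omega
  have hmemS : ∀ x, x ∈ S ↔ x ≠ 1 ∧ (x ∈ H ∧ Cen x C' ∧ Axis x a') ∧ x * x = 1 := fun x => by
    simp only [hS, hI, hU, Finset.mem_erase, Finset.mem_filter, Finset.mem_univ, true_and, hK,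
      Subgroup.mem_inf, mem_perspGrp, inv_eq_iff_mul_eq_one]
  have hpar := invol_parity (fun x => g * x * g⁻¹) S (fun x hx => by
      obtain ⟨hx1, ⟨hxH, hxc, hxa⟩, hx2⟩ := (hmemS x).1 hx
      refine (hmemS _).2 ⟨fun he => hx1 (by simpa [mul_inv_eq_one, mul_eq_left] using he),
        ⟨mul_mem (mul_mem hg hxH) (inv_mem hg), cen_conj_of_fix hxc hgC', ?_⟩, ?_⟩
      · have h2 := hxa.conj g
        rwa [hga'] at h2
      · rw [show g * x * g⁻¹ * (g * x * g⁻¹) = g * (x * x) * g⁻¹ by group, hx2, mul_one,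
          mul_inv_cancel])
    (fun x _ => by
      rw [show g * (g * x * g⁻¹) * g⁻¹ = g * g * x * (g * g)⁻¹ by group, hg2, one_mul, inv_one,
        mul_one])
  obtain ⟨g', hg'mem⟩ : (S.filter fun x => g * x * g⁻¹ = x).Nonempty := by
    rw [← Finset.card_pos]
    omega
  obtain ⟨hg'S, hgg'⟩ := Finset.mem_filter.1 hg'mem
  obtain ⟨hg'1, ⟨hg'H, hc', ha'⟩, hg'2⟩ := (hmemS g').1 hg'S
  have hcomm : g * g' = g' * g := mul_inv_eq_iff_eq_mul.1 hgg'
  have hk2 : g * g' * (g * g') = 1 := by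
    rw [show g * g' * (g * g') = g * (g' * g) * g' by group, ← hcomm,
      show g * (g * g') * g' = g * g * (g' * g') by group, hg2, hg'2, one_mul]
  have hCC' : C ≠ C' := fun he => hCa (he ▸ hC'a)
  have hk1 : g * g' ≠ 1 := fun he => hCC' (cen_unique hg1 hc (by
    have h1 : g = g'⁻¹ := mul_eq_one_iff_eq_inv.1 he
    rw [h1]; exact (cenGrp C').inv_mem hc'))
  obtain ⟨E, b, hEb, hkc, hka⟩ := hh _ (mul_mem hg hg'H) hk2 hk1
  have f1 : (g * g') • C = C := by rw [mul_smul, ha' C hCa', hc.smul_point]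
  have f2 : (g * g') • C' = C' := by rw [mul_smul, hc'.smul_point, hgC']
  have f3 : (g * g') • Q = Q := by rw [mul_smul, ha' Q hQ', ha Q hQ]
  have hQC' : Q ≠ C' := fun he => hC'a' (he ▸ hQ')
  have hQC : Q ≠ C := fun he => hCa (he ▸ hQ)
  have c1 : C = E → False := by
    intro he
    have hC'b : C' ∈ b := (point_cases hka hkc hk1 f2).resolve_right (fun h => hCC' (he.trans h.symm))
    have hQb : Q ∈ b := (point_cases hka hkc hk1 f3).resolve_right (fun h => hQC (h.trans he.symm))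
    have hba : b = a := line_eq hQC' hQb hC'b hQ hC'a
    have h1 : Cen g' C := by
      have h2 := (cenGrp C).mul_mem ((cenGrp C).inv_mem hc) (he ▸ hkc : Cen (g * g') C)
      rwa [inv_mul_cancel_left] at h2
    exact hCC' (cen_unique hg'1 h1 hc')
  have c2 : C' = E → False := by
    intro he
    have h1 : Cen g C' := by
      have h2 := (cenGrp C').mul_mem (he ▸ hkc : Cen (g * g') C') ((cenGrp C').inv_mem hc')
      rwa [mul_inv_cancel_right] at h2
    exact hCC' (cen_unique hg1 hc h1)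
  have hCb : C ∈ b := (point_cases hka hkc hk1 f1).resolve_right c1
  have hC'b : C' ∈ b := (point_cases hka hkc hk1 f2).resolve_right c2
  have hby : b = y := line_eq hCC' hCb hC'b hCy hC'y
  have hQE : Q = E := by
    refine (point_cases hka hkc hk1 f3).resolve_left fun hQb => ?_
    exact hCa (line_eq hQC' hQb hC'b hQ hC'a ▸ hCb)
  exact ⟨g * g', mul_mem hg hg'H, hk2, hk1, hQE ▸ hkc, hby ▸ hka⟩

theorem AllHom.every_axis (hh : AllHom H) (hp : PairsFixed H) (x : L) : ∃ C, Hom H C x := by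
  by_contra hno
  have key : ∀ A B : P, A ∈ x → B ∈ x → A ≠ B →
      ((∃ a, Hom H A a) ∧ ¬ ∃ a, Hom H B a) ∨ ((∃ a, Hom H B a) ∧ ¬ ∃ a, Hom H A a) := by
    intro A B hA hB hAB
    obtain ⟨g, hg, hg2, hg1, hgA, hgB⟩ := hp A B hAB
    obtain ⟨C, a, hCa, hc, ha⟩ := hh g hg hg2 hg1
    have one : ∀ A B : P, A ∈ x → B ∈ x → A ≠ B → A = C → B ∈ a →
        (∃ a, Hom H A a) ∧ ¬ ∃ a, Hom H B a := by
      intro A B hA hB hAB he hBa
      subst he
      refine ⟨⟨a, g, hg, hg2, hg1, hc, ha⟩, fun ⟨y, hy⟩ => hno ?_⟩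
      obtain ⟨y', hy', hAy'⟩ := hh.symm ⟨g, hg, hg2, hg1, hc, ha⟩ hBa hy
      obtain ⟨Q, hQa, hQy⟩ := exists_meet (P := P)
        (show a ≠ y' from fun he => hCa (he ▸ hAy'))
      exact ⟨Q, hh.third ⟨g, hg, hg2, hg1, hc, ha⟩ hy' hBa hAy' hQa hQy hA hB⟩
    rcases point_cases ha hc hg1 hgA with hAa | hAC <;>
      rcases point_cases ha hc hg1 hgB with hBa | hBC
    · exact absurd ⟨C, g, hg, hg2, hg1, hc, line_eq hAB hAa hBa hA hB ▸ ha⟩ hno
    · exact Or.inr (one B A hB hA (Ne.symm hAB) hBC hAa)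
    · exact Or.inl (one A B hA hB hAB hAC hBa)
    · exact absurd (hAC.trans hBC.symm) hAB
  obtain ⟨A, hA⟩ := exists_mem (P := P) x
  obtain ⟨B, hB, hBA⟩ := exists_mem_ne x A
  obtain ⟨C, hC, hCA, hCB⟩ := exists_mem_ne_ne x A B
  rcases key A B hA hB (Ne.symm hBA) with ⟨h1, h2⟩ | ⟨h1, h2⟩ <;>
    rcases key A C hA hC (Ne.symm hCA) with ⟨h3, h4⟩ | ⟨h3, h4⟩ <;>
    rcases key B C hB hC (Ne.symm hCB) with ⟨h5, h6⟩ | ⟨h5, h6⟩ <;> contradiction

theorem AllHom.every_centre (hh : AllHom H) (hp : PairsFixed H) (Q : P) : ∃ a, Hom H Q a := by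
  obtain ⟨a, hQa⟩ := exists_through (L := L) Q
  obtain ⟨C, hC⟩ := hh.every_axis hp a
  have hCa := hh.notMem hC
  obtain ⟨y, hCy, hQy⟩ := exists_join (L := L) (show C ≠ Q from fun he => hCa (he ▸ hQa))
  obtain ⟨B₀, hB₀⟩ := hh.every_axis hp y
  obtain ⟨g, hg, hg2, hg1, hc, ha⟩ := hC
  obtain ⟨B, hB, hgB⟩ := hh.fixes_centre hB₀ hg hg2 (hc y hCy)
  have hBa : B ∈ a :=
    (point_cases ha hc hg1 hgB).resolve_right fun he => hh.notMem hB (he ▸ hCy)
  obtain ⟨w, hCw, hBw⟩ := exists_join' (L := L) C B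
  exact ⟨w, hh.third ⟨g, hg, hg2, hg1, hc, ha⟩ hB hBa hCy hQa hQy hCw hBw⟩

/-- Some line is the axis of two involutory homologies with different centres. -/
theorem AllHom.two_centres (hh : AllHom H) (hp : PairsFixed H) :
    ∃ (z : L) (C C' : P), C ≠ C' ∧ Hom H C z ∧ Hom H C' z := by
  classical
  by_contra hno
  push Not at hno
  haveI := Fintype.ofFinite P
  haveI := Fintype.ofFinite L
  choose σ hσ using hh.every_axis hp
  have huniq : ∀ {C : P} {x : L}, Hom H C x → σ x = C := fun {C x} h => by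
    by_contra hne
    exact hno x (σ x) C hne (hσ x) h
  have hbij : Function.Bijective σ := by
    refine (Fintype.bijective_iff_surjective_and_card σ).2 ⟨fun Q => ?_, ?_⟩
    · obtain ⟨a, ha⟩ := hh.every_centre hp Q
      exact ⟨a, huniq ha⟩
    · exact (ProjectivePlane.card_points_eq_card_lines P L).symm
  have hsymm : ∀ x y : L, σ x ∈ y → σ y ∈ x := fun x y hxy => by
    obtain ⟨y', hy', hCy'⟩ := hh.symm (hσ y) hxy (hσ x)
    rwa [hbij.1 ((huniq hy').trans (rfl : σ x = σ x))] at hCy'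
  set n := ProjectivePlane.order P L with hn
  obtain ⟨p, hp', hpn⟩ := Nat.exists_prime_and_dvd
    (show n ≠ 1 from (ProjectivePlane.one_lt_order P L).ne')
  haveI : Fact p.Prime := ⟨hp'⟩
  have hn0 : (n : ZMod p) = 0 := (ZMod.natCast_eq_zero_iff n p).2 hpn
  let M : Matrix L L (ZMod p) := fun x y => if σ x ∈ y then 1 else 0
  let J : Matrix L L (ZMod p) := fun _ _ => 1
  have hcard : ∀ x : L, (Finset.univ.filter fun y : L => σ x ∈ y).card = n + 1 := fun x => by
    rw [← Fintype.card_subtype, ← Nat.card_eq_fintype_card, card_at]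
  have hMM : M * M = J := by
    ext x z
    rw [Matrix.mul_apply]
    change (∑ y, (if σ x ∈ y then (1 : ZMod p) else 0) * (if σ y ∈ z then 1 else 0)) = 1
    rw [Finset.sum_congr rfl (g := fun y : L => if σ x ∈ y ∧ σ z ∈ y then (1 : ZMod p) else 0)
      fun y _ => by
        by_cases h1 : σ x ∈ y <;> by_cases h2 : σ y ∈ z <;>
          simp [h1, h2, (⟨hsymm z y, hsymm y z⟩ : σ z ∈ y ↔ σ y ∈ z)], Finset.sum_boole]
    by_cases hxz : x = z
    · subst hxz
      simp only [and_self, hcard, Nat.cast_add, hn0, Nat.cast_one, zero_add]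
    · obtain ⟨y, h1, h2⟩ := exists_join (L := L) (fun he => hxz (hbij.1 he) : σ x ≠ σ z)
      have : (Finset.univ.filter fun y : L => σ x ∈ y ∧ σ z ∈ y) = {y} := by
        ext w
        simp only [Finset.mem_filter, Finset.mem_univ, true_and, Finset.mem_singleton]
        exact ⟨fun hw => line_eq (fun he => hxz (hbij.1 he)) hw.1 hw.2 h1 h2,
          fun hw => hw ▸ ⟨h1, h2⟩⟩
      rw [this, Finset.card_singleton, Nat.cast_one]
  have hMJ : M * J = J := by
    ext x z
    rw [Matrix.mul_apply]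
    change (∑ y, (if σ x ∈ y then (1 : ZMod p) else 0) * 1) = 1
    simp only [mul_one, Finset.sum_boole, hcard, Nat.cast_add, hn0, Nat.cast_one, zero_add]
  have hpow : ∀ j : ℕ, M ^ (j + 2) = J := by
    intro j
    induction j with
    | zero => rw [pow_two, hMM]
    | succ j ih => rw [pow_succ', ih, hMJ]
  have htr := ZMod.trace_pow_card M
  have htrM : M.trace = 0 := Finset.sum_eq_zero fun x _ => by
    simp [Matrix.diag, M, hh.notMem (hσ x)]
  obtain ⟨j, hj⟩ := Nat.exists_eq_add_of_le' hp'.two_le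
  have hMp : M ^ p = J := (congrArg (fun e : ℕ => M ^ e) hj).trans (hpow j)
  rw [htrM, zero_pow hp'.ne_zero, hMp] at htr
  simp [Matrix.trace, Matrix.diag, J, Finset.sum_const, ← Nat.card_eq_fintype_card,
    card_lines' (P := P), ← hn, hn0] at htr

theorem odd_exponent (hh : AllHom H) {z : L} {g : Coll P L} (hgH : g ∈ H) (hg : g ∈ trans z)
    (hg2 : g * g = 1) : g = 1 := by
  by_contra hg1
  obtain ⟨C, a, hCa, hc, ha⟩ := hh g hgH hg2 hg1
  obtain ⟨hga, D, hD, hgc⟩ := hg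
  exact hCa (cen_unique hg1 hc hgc ▸ axis_unique hg1 hga ha ▸ hD)

theorem card_mul_of_split {G : Type*} [Group G] [Finite G] (T A B : Subgroup G) (hA : A ≤ T)
    (hB : B ≤ T) (hAB : ∀ x ∈ A, x ∈ B → x = 1) (hT : ∀ t ∈ T, ∃ u ∈ A, ∃ v ∈ B, u * v = t) :
    Nat.card T = Nat.card A * Nat.card B := by
  rw [← Nat.card_prod]
  refine (Nat.card_congr (Equiv.ofBijective
    (fun p : A × B => (⟨p.1.1 * p.2.1, mul_mem (hA p.1.2) (hB p.2.2)⟩ : T)) ⟨?_, ?_⟩)).symm
  · rintro ⟨⟨u, hu⟩, v, hv⟩ ⟨⟨u', hu'⟩, v', hv'⟩ he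
    have he' : u * v = u' * v' := congrArg Subtype.val he
    have h1 : u'⁻¹ * u = v' * v⁻¹ := by
      rw [eq_mul_inv_iff_mul_eq, mul_assoc, he', inv_mul_cancel_left]
    have h2 := hAB _ (mul_mem (inv_mem hu') hu) (h1 ▸ mul_mem hv' (inv_mem hv))
    obtain rfl : u = u' := (inv_mul_eq_one.1 h2).symm
    obtain rfl : v = v' := mul_left_cancel he'
    rfl
  · rintro ⟨t, ht⟩
    obtain ⟨u, hu, v, hv, he⟩ := hT t ht
    exact ⟨(⟨u, hu⟩, ⟨v, hv⟩), Subtype.ext he⟩

theorem card_le_of_split {G : Type*} [Group G] [Finite G] (A B C : Subgroup G)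
    (hC : ∀ t ∈ C, ∃ u ∈ A, ∃ v ∈ B, u * v = t) (hCA : ∀ x ∈ C, x ∈ A → x = 1) :
    Nat.card C ≤ Nat.card B := by
  choose u hu v hv he using hC
  refine Nat.card_le_card_of_injective (fun t : C => (⟨v t t.2, hv t t.2⟩ : B)) fun t t' h => ?_
  have h' : v t t.2 = v t' t'.2 := congrArg Subtype.val h
  have h2 : (t : G) * (t' : G)⁻¹ = u t t.2 * (u t' t'.2)⁻¹ := by
    conv_lhs => rw [← he t t.2, ← he t' t'.2, h']
    group
  exact Subtype.ext (mul_inv_eq_one.1
    (hCA _ (mul_mem t.2 (inv_mem t'.2)) (h2 ▸ mul_mem (hu t t.2) (inv_mem (hu t' t'.2)))))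

/-- A translation-like group with two centres: the order is the prime power `|T(B)|`. -/
theorem AllHom.order_of_two_elation_centres (hh : AllHom H) (hp : PairsFixed H) {z : L}
    (h2 : ∃ x ∈ H ⊓ trans z, ∃ y ∈ H ⊓ trans z, ∃ D D' : P,
      x ≠ 1 ∧ y ≠ 1 ∧ Cen x D ∧ Cen y D' ∧ D ≠ D') :
    ∃ q k : ℕ, q.Prime ∧ ProjectivePlane.order P L = q ^ k := by
  classical
  haveI := Fintype.ofFinite P
  set T := H ⊓ trans z with hT
  obtain ⟨hcomm, q, hq, hexp⟩ := trans_exp T inf_le_right h2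
  obtain ⟨x₀, hx₀, y₀, hy₀, D₀, D₀', hx₀1, hy₀1, hcx, hcy, hDD⟩ := h2
  have hq2 : q ≠ 2 := fun he => by
    subst he
    exact hx₀1 (odd_exponent hh hx₀.1 hx₀.2 (by rw [← pow_two]; exact hexp x₀ hx₀))
  set E : P → Subgroup (Coll P L) := fun B => T ⊓ cenGrp B with hE
  have hdisj : ∀ B B' : P, B ≠ B' → ∀ x ∈ E B, x ∈ E B' → x = 1 := fun B B' hne x hx hx' =>
    eq_one_of_two_cen hx.2 hx'.2 hne
  have hcen : ∀ t ∈ T, t ≠ 1 → ∃ D ∈ z, t ∈ E D := by
    intro t ht _
    obtain ⟨-, D, hD, hc⟩ := ht.2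
    exact ⟨D, hD, ht, hc⟩
  have hsplit : ∀ B ∈ z, ∃ B' ∈ z, B' ≠ B ∧ ∀ t ∈ T, ∃ u ∈ E B, ∃ v ∈ E B', u * v = t := by
    intro B hB
    obtain ⟨C, hC⟩ := hh.every_axis hp z
    obtain ⟨a₀, ha₀⟩ := hh.every_centre hp B
    obtain ⟨y, hy, hCy⟩ := hh.symm hC hB ha₀
    have hBy := hh.notMem hy
    have hyz : y ≠ z := fun he => hBy (he ▸ hB)
    obtain ⟨B', hB'y, hB'z⟩ := exists_meet (P := P) hyz
    refine ⟨B', hB'z, fun he => hBy (he ▸ hB'y), ?_⟩
    obtain ⟨g, hg, hg2, hg1, hc, ha⟩ := hy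
    have hgi : g⁻¹ = g := inv_eq_of_mul_eq_one_right hg2
    have hgz : g • z = z := hc z hB
    have hgT : ∀ t ∈ T, g * t * g ∈ T := fun t ht => by
      refine ⟨mul_mem (mul_mem hg ht.1) hg, ?_⟩
      have h1 := trans_conj ht.2 hgz
      rwa [hgi] at h1
    have hwho : ∀ w ∈ T, (g * w * g = w ∨ g * w * g = w⁻¹) → w ∈ E B ∨ w ∈ E B' := by
      intro w hw hwg
      by_cases hw1 : w = 1
      · exact Or.inl (hw1 ▸ one_mem _)
      obtain ⟨-, D, hD, hwc⟩ := hw.2
      have h1 : Cen (g * w * g) (g • D) := by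
        have h1 := hwc.conj g
        rwa [hgi] at h1
      have hne : g * w * g ≠ 1 := by
        rcases hwg with h | h <;> rw [h]
        · exact hw1
        · simpa using hw1
      have h2 : Cen (g * w * g) D := by
        rcases hwg with h | h <;> rw [h]
        · exact hwc
        · exact (cenGrp D).inv_mem hwc
      have hgD : g • D = D := cen_unique hne h1 h2
      rcases point_cases ha hc hg1 hgD with hDy | hDB
      · exact Or.inr ⟨hw, point_eq hyz hDy hD hB'y hB'z ▸ hwc⟩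
      · exact Or.inl ⟨hw, hDB ▸ hwc⟩
    intro t ht
    have ht' := hgT t ht
    have hgg : ∀ w, g * (g * w * g) * g = w := fun w => by
      rw [show g * (g * w * g) * g = g * g * w * (g * g) by group, hg2, one_mul, mul_one]
    have hconj : ∀ a b, g * (a * b) * g = g * a * g * (g * b * g) := fun a b => by
      rw [show g * a * g * (g * b * g) = g * a * (g * g) * b * g by group, hg2]
      group
    have hf1 : g * (t * (g * t * g)) * g = t * (g * t * g) := by
      rw [hconj, hgg, hcomm _ ht' t ht]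
    have hf2 : g * (t * (g * t * g)⁻¹) * g = (t * (g * t * g)⁻¹)⁻¹ := by
      rw [hconj, show g * (g * t * g)⁻¹ * g = t⁻¹ by group, mul_inv_rev t (g * t * g)⁻¹, inv_inv]
    obtain ⟨k, hk⟩ := Nat.Prime.odd_of_ne_two hq hq2
    set s := t * (g * t * g)
    set d := t * (g * t * g)⁻¹
    have hsT : s ∈ T := mul_mem ht ht'
    have hdT : d ∈ T := mul_mem ht (inv_mem ht')
    have hprod : t = s ^ (k + 1) * d ^ (k + 1) := by
      have h1 : Commute t (g * t * g) := hcomm t ht _ ht'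
      rw [← (show Commute s d from hcomm s hsT d hdT).mul_pow,
        show s * d = t * (g * t * g * t) * (g * t * g)⁻¹ by simp only [s, d]; group, ← h1.eq,
        show t * (t * (g * t * g)) * (g * t * g)⁻¹ = t ^ 2 by rw [pow_two]; group, ← pow_mul,
        show 2 * (k + 1) = q + 1 by omega, pow_succ, hexp t ht, one_mul]
    rcases hwho s hsT (Or.inl hf1) with h1 | h1 <;> rcases hwho d hdT (Or.inr hf2) with h2 | h2
    · exact ⟨t, hprod ▸ mul_mem (pow_mem h1 _) (pow_mem h2 _), 1, one_mem _, mul_one t⟩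
    · exact ⟨_, pow_mem h1 _, _, pow_mem h2 _, hprod.symm⟩
    · exact ⟨_, pow_mem h2 _, _, pow_mem h1 _, by
        rw [hcomm _ (pow_mem hdT _) _ (pow_mem hsT _)]; exact hprod.symm⟩
    · exact ⟨1, one_mem _, t, hprod ▸ mul_mem (pow_mem h1 _) (pow_mem h2 _), one_mul t⟩
  set a : P → ℕ := fun B => Nat.card (E B) with ha'
  set S := Finset.univ.filter fun p : P => p ∈ z with hSdef
  obtain ⟨B₀, hB₀⟩ := exists_mem (P := P) z
  obtain ⟨B, hBS, hmax⟩ := Finset.exists_max_image S a ⟨B₀, by simp [hSdef, hB₀]⟩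
  have hBz : B ∈ z := by simpa [hSdef] using hBS
  obtain ⟨B', hB'z, hB'B, hdec⟩ := hsplit B hBz
  have hcard : Nat.card T = a B * a B' :=
    card_mul_of_split T (E B) (E B') inf_le_left inf_le_left (hdisj B B' (Ne.symm hB'B)) hdec
  have hpos : ∀ D, 0 < a D := fun D => Nat.card_pos
  have hothers : ∀ D ∈ z, D ≠ B → a D = a B' := by
    intro D hD hDB
    obtain ⟨D', hD'z, hD'D, hdecD⟩ := hsplit D hD
    have h1 : a D * a D' = a B * a B' := by
      rw [← hcard]
      exact (card_mul_of_split T (E D) (E D') inf_le_left inf_le_left (hdisj D D' (Ne.symm hD'D))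
        hdecD).symm
    have h2 : a D ≤ a B' := card_le_of_split (E B) (E B') (E D)
      (fun t ht => hdec t ht.1) (hdisj D B hDB)
    have h3 : a D' ≤ a B := hmax D' (by simp [hSdef, hD'z])
    refine le_antisymm h2 ?_
    by_contra hlt
    push Not at hlt
    have h4 : a D * a D' < a B' * a B := Nat.mul_lt_mul_of_lt_of_le hlt h3 (hpos B)
    rw [h1, mul_comm] at h4
    exact lt_irrefl _ h4
  haveI : Fintype (Coll P L) := Fintype.ofFinite _
  have hfib : (Finset.univ.filter fun t : Coll P L => t ∈ T ∧ t ≠ 1).card =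
      ∑ D ∈ S, ((Finset.univ.filter fun t : Coll P L => t ∈ E D).erase 1).card := by
    rw [← Finset.card_biUnion]
    · congr 1
      ext t
      simp only [Finset.mem_filter, Finset.mem_univ, true_and, Finset.mem_biUnion,
        Finset.mem_erase, hSdef]
      constructor
      · rintro ⟨ht, ht1⟩
        obtain ⟨D, hD, hc⟩ := hcen t ht ht1
        exact ⟨D, hD, ht1, hc⟩
      · rintro ⟨D, -, ht1, hc⟩
        exact ⟨hc.1, ht1⟩
    · intro D _ D' _ hne
      rw [Function.onFun, Finset.disjoint_left]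
      intro t h1 h2
      simp only [Finset.mem_filter, Finset.mem_univ, true_and, Finset.mem_erase] at h1 h2
      exact h1.1 (hdisj D D' hne t h1.2 h2.2)
  have herase : ∀ (K : Subgroup (Coll P L)),
      ((Finset.univ.filter fun t : Coll P L => t ∈ K).erase 1).card = Nat.card K - 1 := fun K => by
    rw [Finset.card_erase_of_mem (by simp [one_mem]), Nat.card_eq_fintype_card,
      Fintype.card_subtype]
  have hT1 : (Finset.univ.filter fun t : Coll P L => t ∈ T ∧ t ≠ 1).card = Nat.card T - 1 := by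
    rw [← herase]
    congr 1
    ext t
    simp [and_comm]
  rw [hT1, Finset.sum_congr rfl fun D _ => herase (E D), ← Finset.add_sum_erase S _ hBS,
    Finset.sum_congr rfl (g := fun _ => a B' - 1) fun D hD => by
      rw [← hothers D (by simpa [hSdef] using Finset.mem_of_mem_erase hD)
        (Finset.ne_of_mem_erase hD)],
    Finset.sum_const, smul_eq_mul, Finset.card_erase_of_mem hBS,
    show S.card = ProjectivePlane.order P L + 1 by
      rw [hSdef, ← Fintype.card_subtype, ← Nat.card_eq_fintype_card, card_on],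
    Nat.add_sub_cancel] at hfib
  change _ = (a B - 1) + _ at hfib
  have hB'1 : 2 ≤ a B' := by
    by_contra hlt
    have h1 : a B' = 1 := by have := hpos B'; omega
    have hbot : E B' = ⊥ := Subgroup.card_eq_one.1 h1
    have hin : ∀ t ∈ T, Cen t B := fun t ht => by
      obtain ⟨u, hu, v, hv, rfl⟩ := hdec t ht
      rw [hbot, Subgroup.mem_bot] at hv
      rw [hv, mul_one]
      exact hu.2
    exact hDD ((cen_unique hx₀1 hcx (hin x₀ hx₀)).trans (cen_unique hy₀1 (hin y₀ hy₀) hcy))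
  have hr : ProjectivePlane.order P L = a B := by
    rw [hcard] at hfib
    obtain ⟨u, hu⟩ : ∃ u, a B = u + 1 := ⟨a B - 1, by have := hpos B; omega⟩
    obtain ⟨v, hv⟩ : ∃ v, a B' = v + 1 := ⟨a B' - 1, by omega⟩
    rw [hu, hv] at hfib
    simp only [Nat.add_sub_cancel, add_mul, mul_add, mul_one, one_mul, ← Nat.add_assoc] at hfib
    rw [hu]
    refine Nat.eq_of_mul_eq_mul_right (show 0 < v by omega) ?_
    rw [add_mul, one_mul]
    omega
  obtain ⟨k, hk⟩ := card_eq_prime_pow (E B) hq fun x hx => hexp x hx.1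
  exact ⟨q, k, hq, hr.trans hk⟩

/-- A plane of odd order with all pairs fixed by involutory homologies has prime power order. -/
theorem AllHom.order_prime_pow (hh : AllHom H) (hp : PairsFixed H) :
    ∃ q k : ℕ, q.Prime ∧ ProjectivePlane.order P L = q ^ k := by
  classical
  by_cases hA : ∃ z : L, ∃ x ∈ H ⊓ trans z, ∃ y ∈ H ⊓ trans z, ∃ D D' : P,
      x ≠ 1 ∧ y ≠ 1 ∧ Cen x D ∧ Cen y D' ∧ D ≠ D'
  · obtain ⟨z, hz⟩ := hA
    exact hh.order_of_two_elation_centres hp hz
  have mono : ∀ {z : L} {x y : Coll P L} {D D' : P}, x ∈ H → x ∈ trans z → x ≠ 1 → y ∈ H →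
      y ∈ trans z → y ≠ 1 → Cen x D → Cen y D' → D = D' := by
    intro z x y D D' h1 h2 h3 h4 h5 h6 h7 h8
    by_contra hne
    exact hA ⟨z, x, ⟨h1, h2⟩, y, ⟨h4, h5⟩, D, D', h3, h6, h7, h8, hne⟩
  obtain ⟨z, C₁, C₂, hC12, hC₁, hC₂⟩ := hh.two_centres hp
  obtain ⟨t, ht, ht1, htT⟩ := exists_elation (H ⊓ axisGrp z) (fun g hg => hg.2) hC12
    (hh.notMem hC₁) (hh.notMem hC₂)
    (by obtain ⟨g, hg, -, hg1, hc, ha⟩ := hC₁; exact ⟨g, ⟨hg, ha⟩, hg1, hc⟩)
    (by obtain ⟨g, hg, -, hg1, hc, ha⟩ := hC₂; exact ⟨g, ⟨hg, ha⟩, hg1, hc⟩)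
  obtain ⟨hta, Pc, hPz, htc⟩ := htT
  have htH : t ∈ H := ht.1
  have hfixP : ∀ g ∈ H, g • z = z → g • Pc = Pc := by
    intro g hg hgz
    refine mono (mul_mem (mul_mem hg htH) (inv_mem hg)) (trans_conj ⟨hta, Pc, hPz, htc⟩ hgz) ?_
      htH ⟨hta, Pc, hPz, htc⟩ ht1 (htc.conj g) htc
    intro he
    exact ht1 (by simpa [mul_inv_eq_one, mul_eq_left] using he)
  have haxes : ∀ (B : P) (C : P), B ∈ z → B ≠ Pc → Hom H C z →
      ∀ y : L, C ∈ y → Pc ∈ y → Hom H B y := by
    intro B C hB hBP hC y hCy hPy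
    obtain ⟨a₀, ha₀⟩ := hh.every_centre hp B
    obtain ⟨y', hy', hCy'⟩ := hh.symm hC hB ha₀
    have hBy' := hh.notMem hy'
    obtain ⟨g, hg, hg2, hg1, hc, ha⟩ := hy'
    have hPy' : Pc ∈ y' :=
      (point_cases ha hc hg1 (hfixP g hg (hc z hB))).resolve_right (Ne.symm hBP)
    have hCP : C ≠ Pc := fun he => hh.notMem hC (he ▸ hPz)
    rw [line_eq hCP hCy hPy hCy' hPy']
    exact ⟨g, hg, hg2, hg1, hc, ha⟩
  obtain ⟨B, hBz, hBP⟩ := exists_mem_ne z Pc
  obtain ⟨w, hC₁w, hPw⟩ := exists_join (L := L)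
    (show C₁ ≠ Pc from fun he => hh.notMem hC₁ (he ▸ hPz))
  have hall : ∀ C, Hom H C z → C ∈ w := by
    intro C hC
    obtain ⟨w', hCw', hPw'⟩ := exists_join (L := L)
      (show C ≠ Pc from fun he => hh.notMem hC (he ▸ hPz))
    by_contra hne
    have hww : w ≠ w' := fun he => hne (he ▸ hCw')
    have h1 := haxes B C₁ hBz hBP hC₁ w hC₁w hPw
    have h2 := haxes B C hBz hBP hC w' hCw' hPw'
    have hk : ∀ v : L, Pc ∈ v → Hom H B v → ∃ g ∈ (H ⊓ cenGrp B) ⊓
        MulAction.stabilizer (Coll P L) Pc, g ≠ 1 ∧ Axis g v := fun v hv ⟨g, hg, _, hg1, hc, ha⟩ =>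
      ⟨g, ⟨⟨hg, hc⟩, ha Pc hv⟩, hg1, ha⟩
    obtain ⟨g, ⟨⟨hgH, hgc⟩, hgP⟩, hg1, a, hBa, hga⟩ := exists_elation_dual _
      (fun g (hg : g ∈ (H ⊓ cenGrp B) ⊓ MulAction.stabilizer (Coll P L) Pc) => hg.1.2) hww
      (hh.notMem h1) (hh.notMem h2) (hk w hPw h1) (hk w' hPw' h2)
    have hPa : Pc ∈ a := (point_cases hga hgc hg1 hgP).resolve_right (Ne.symm hBP)
    have haz : a = z := line_eq hBP hBa hPa hBz hPz
    subst haz
    exact hBP (mono hgH ⟨hga, B, hBz, hgc⟩ hg1 htH ⟨hta, Pc, hPz, htc⟩ ht1 hgc htc)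
  have hC₂w : C₂ ∈ w := hall C₂ hC₂
  have hwz : w ≠ z := fun he => hh.notMem hC₁ (he ▸ hC₁w)
  have hBw : ∀ B, B ∈ z → B ≠ Pc → Hom H B w := fun B hB hB' =>
    haxes B C₁ hB hB' hC₁ w hC₁w hPw
  set K := (H ⊓ axisGrp w) ⊓ MulAction.stabilizer (Coll P L) z with hK
  have hKex : ∀ D, D ∈ z → D ≠ Pc → D ∉ w ∧ ∃ g ∈ K, g ≠ 1 ∧ Cen g D := fun D hD hD' => by
    have hn := hh.notMem (hBw D hD hD')
    obtain ⟨g, hg, -, hg1, hc, ha⟩ := hBw D hD hD'
    exact ⟨hn, g, ⟨⟨hg, ha⟩, hc z hD⟩, hg1, hc⟩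
  have hS : ∀ D, D ∈ ({D | D ∈ z ∧ D ≠ Pc} : Set P) ↔
      D ∉ w ∧ ∃ g ∈ K, g ≠ 1 ∧ Cen g D := by
    refine fun D => ⟨fun hD => hKex D hD.1 hD.2, ?_⟩
    rintro ⟨hDw, g, ⟨⟨-, hga⟩, hgz⟩, hg1, hgc⟩
    exact ⟨(line_cases hga hgc hg1 hgz).resolve_left hwz.symm, fun he => hDw (he ▸ hPw)⟩
  have hcount := persp_count K (fun g hg => hg.1.2) _ hS ⟨B, hBz, hBP⟩
  change Nat.card {D : P // D ∈ z ∧ D ≠ Pc} = _ at hcount
  rw [card_on_ne hPz] at hcount
  have hr := ProjectivePlane.one_lt_order P L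
  haveI : Nontrivial ↥(K ⊓ trans w) := Finite.one_lt_card_iff_nontrivial.1 (hcount ▸ hr)
  obtain ⟨⟨u, huK, huT⟩, hu⟩ := exists_ne (1 : ↥(K ⊓ trans w))
  have hu1 : u ≠ 1 := fun he => hu (Subtype.ext he)
  obtain ⟨hua, P', hP'w, huc⟩ := id huT
  have huH : u ∈ H := huK.1.1
  have hP' : P' = Pc := by
    have hcase : ∀ C, Hom H C z → C ∈ w → P' = C ∨ P' = Pc := by
      intro C hC hCw
      obtain ⟨g, hg, -, hg1, hc, ha⟩ := hC
      have hgw : g • w = w := hc w hCw
      have hgP' : g • P' = P' := by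
        refine mono (mul_mem (mul_mem hg huH) (inv_mem hg)) (trans_conj huT hgw) ?_ huH huT hu1
          (huc.conj g) huc
        intro he
        exact hu1 (by simpa [mul_inv_eq_one, mul_eq_left] using he)
      rcases point_cases ha hc hg1 hgP' with h | h
      · exact Or.inr (point_eq hwz hP'w h hPw hPz)
      · exact Or.inl h
    rcases hcase C₁ hC₁ hC₁w with h1 | h1
    · rcases hcase C₂ hC₂ hC₂w with h2 | h2
      · exact absurd (h1.symm.trans h2) hC12
      · exact h2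
    · exact h1
  subst hP'
  set H' := H.map (dualColl (P := P) (L := L)).toMonoidHom with hH'
  have hin : ∀ g ∈ H, Cen g P' → ∀ a : L, P' ∈ a → Axis g a →
      dualColl g ∈ H' ⊓ trans (P := Dual L) (L := Dual P) P' := fun g hg hc a ha hga =>
    ⟨⟨g, hg, rfl⟩, axis_dual.2 hc, a, ha, cen_dual.2 hga⟩
  obtain ⟨-, q, hq, hexp⟩ := trans_exp (P := Dual L) (L := Dual P) (z := P')
    (H' ⊓ trans (P := Dual L) (L := Dual P) P') inf_le_right
    ⟨_, hin t htH htc z hPz hta, _, hin u huH huc w hPw hua, z, w,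
      fun he => ht1 (dualColl.map_eq_one_iff.1 he), fun he => hu1 (dualColl.map_eq_one_iff.1 he),
      cen_dual.2 hta, cen_dual.2 hua, hwz.symm⟩
  obtain ⟨k, hk⟩ := card_eq_prime_pow (K ⊓ trans w) hq fun x hx => by
    by_cases hx1 : x = 1
    · rw [hx1, one_pow]
    obtain ⟨hxa, D, hD, hxc⟩ := hx.2
    have hDP : D = P' := mono hx.1.1.1 hx.2 hx1 huH huT hu1 hxc huc
    subst hDP
    have h1 := hexp _ (hin x hx.1.1.1 hxc w hPw hxa)
    rw [← map_pow] at h1
    exact dualColl.map_eq_one_iff.1 h1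
  exact ⟨q, k, hq, hcount.trans hk⟩

end H27.OW
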