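import Cfsg.Agent.H27.OW.Count

/-!
Involutions of a projective plane without axis are Baer involutions; fixed subplanes.
-/

set_option autoImplicit false
set_option linter.style.haveILetI false
set_option linter.unusedSectionVars false

namespace H27.OW

open Configuration

variable {P L : Type*} [Membership P L]

/-- Four points in general position. -/
def NoThree (A B C D : P) : Prop :=
  ∀ l : L, ¬(A ∈ l ∧ B ∈ l ∧ C ∈ l) ∧ ¬(A ∈ l ∧ B ∈ l ∧ D ∈ l) ∧ ¬(A ∈ l ∧ C ∈ l ∧ D ∈ l) ∧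
    ¬(B ∈ l ∧ C ∈ l ∧ D ∈ l)

/-- The fixed structure of `R` contains a quadrangle. -/
def Quad (R : Subgroup (Coll P L)) : Prop :=
  ∃ A B C D : P, (∀ g ∈ R, g • A = A) ∧ (∀ g ∈ R, g • B = B) ∧ (∀ g ∈ R, g • C = C) ∧
    (∀ g ∈ R, g • D = D) ∧ NoThree (L := L) A B C D

theorem Quad.mono {R S : Subgroup (Coll P L)} (h : Quad R) (hS : S ≤ R) : Quad S := by
  obtain ⟨A, B, C, D, hA, hB, hC, hD, h⟩ := h
  exact ⟨A, B, C, D, fun g hg => hA g (hS hg), fun g hg => hB g (hS hg), fun g hg => hC g (hS hg),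
    fun g hg => hD g (hS hg), h⟩

variable [ProjectivePlane P L] [Finite P] [Finite L]

theorem NoThree.two_off {A B C D : P} (h : NoThree (L := L) A B C D) (a : L) :
    ∃ X Y : P, X ≠ Y ∧ X ∉ a ∧ Y ∉ a ∧ (X = A ∨ X = B ∨ X = C ∨ X = D) ∧
      (Y = A ∨ Y = B ∨ Y = C ∨ Y = D) := by
  have hne : A ≠ B ∧ A ≠ C ∧ A ≠ D ∧ B ≠ C ∧ B ≠ D ∧ C ≠ D := by
    refine ⟨?_, ?_, ?_, ?_, ?_, ?_⟩ <;> intro he <;> subst he
    · obtain ⟨l, h1, h2⟩ := exists_join' (L := L) A C; exact (h l).1 ⟨h1, h1, h2⟩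
    · obtain ⟨l, h1, h2⟩ := exists_join' (L := L) A B; exact (h l).1 ⟨h1, h2, h1⟩
    · obtain ⟨l, h1, h2⟩ := exists_join' (L := L) A B; exact (h l).2.1 ⟨h1, h2, h1⟩
    · obtain ⟨l, h1, h2⟩ := exists_join' (L := L) A B; exact (h l).1 ⟨h1, h2, h2⟩
    · obtain ⟨l, h1, h2⟩ := exists_join' (L := L) A B; exact (h l).2.1 ⟨h1, h2, h2⟩
    · obtain ⟨l, h1, h2⟩ := exists_join' (L := L) A C; exact (h l).2.2.1 ⟨h1, h2, h2⟩
  obtain ⟨h1, h2, h3, h4⟩ := h a
  obtain ⟨n1, n2, n3, n4, n5, n6⟩ := hne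
  by_cases hA : A ∈ a <;> by_cases hB : B ∈ a <;> by_cases hC : C ∈ a <;> by_cases hD : D ∈ a
  all_goals first
    | (exfalso; revert h1 h2 h3 h4; simp [hA, hB, hC, hD]; done)
    | exact ⟨A, B, n1, hA, hB, by simp, by simp⟩
    | exact ⟨A, C, n2, hA, hC, by simp, by simp⟩
    | exact ⟨A, D, n3, hA, hD, by simp, by simp⟩
    | exact ⟨B, C, n4, hB, hC, by simp, by simp⟩
    | exact ⟨B, D, n5, hB, hD, by simp, by simp⟩
    | exact ⟨C, D, n6, hC, hD, by simp, by simp⟩

theorem Quad.no_axis {R : Subgroup (Coll P L)} (h : Quad R) {g : Coll P L} {a : L} (hg : g ∈ R)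
    (ha : Axis g a) : g = 1 := by
  obtain ⟨A, B, C, D, hA, hB, hC, hD, hq⟩ := h
  obtain ⟨X, Y, hXY, hXa, hYa, hX, hY⟩ := hq.two_off a
  have hf : ∀ Z, (Z = A ∨ Z = B ∨ Z = C ∨ Z = D) → g • Z = Z := by
    rintro Z (rfl | rfl | rfl | rfl)
    exacts [hA g hg, hB g hg, hC g hg, hD g hg]
  exact eq_one_of_two_cen (ha.cen_of_fix hXa (hf X hX)) (ha.cen_of_fix hYa (hf Y hY)) hXY

theorem card_fixed_off {g : Coll P L} (hg2 : g * g = 1) {m : L} (hm : g • m = m) {X : P}
    (hX : X ∈ m) (hXf : g • X ≠ X) :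
    Nat.card {Z : P // g • Z = Z ∧ Z ∉ m} = ProjectivePlane.order P L := by
  have hg' : ∀ {y : L}, g • (g • y) = y := fun {y} => by rw [smul_smul, hg2, one_smul]
  have hmov : ∀ y : L, X ∈ y → y ≠ m → g • y ≠ y := fun y hy hym he =>
    hXf (smul_eq_of_two' hym hy hX he hm)
  have hex : ∀ y : {y : L // X ∈ y ∧ y ≠ m}, ∃ Z : P, Z ∈ y.1 ∧ Z ∈ g • y.1 := fun y =>
    exists_meet (Ne.symm (hmov y.1 y.2.1 y.2.2))
  choose f hf1 hf2 using hex
  have hfix : ∀ y, g • f y = f y := fun y => by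
    refine point_eq (hmov y.1 y.2.1 y.2.2) ((smul_mem_smul g _ _).2 (hf1 y)) ?_ (hf2 y) (hf1 y)
    rw [← hg' (y := y.1)]
    exact (smul_mem_smul g _ _).2 (hf2 y)
  have hne : ∀ y, f y ≠ X := fun y he => hXf (by rw [← he]; exact hfix y)
  have hoff : ∀ y, f y ∉ m := fun y hy => y.2.2 (line_eq (hne y) (hf1 y) y.2.1 hy hX)
  rw [← card_at_ne (P := P) hX]
  symm
  refine Nat.card_congr (Equiv.ofBijective (fun y => ⟨f y, hfix y, hoff y⟩) ⟨?_, ?_⟩)
  · intro y z he
    have he' : f y = f z := congrArg Subtype.val he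
    exact Subtype.ext (line_eq (hne y) (hf1 y) y.2.1 (he' ▸ hf1 z) z.2.1)
  · rintro ⟨Z, hZ, hZm⟩
    obtain ⟨y, hXy, hZy⟩ := exists_join (L := L) (show X ≠ Z from fun he => hZm (he ▸ hX))
    have hym : y ≠ m := fun he => hZm (he ▸ hZy)
    refine ⟨⟨y, hXy, hym⟩, Subtype.ext ?_⟩
    exact point_eq (Ne.symm (hmov y hXy hym)) (hf1 ⟨y, hXy, hym⟩) (hf2 ⟨y, hXy, hym⟩) hZy
      (smul_mem_of_fix hZ hZy)

/-- An involution without axis fixes a subplane of order `m` with `n = m ^ 2`. -/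
theorem baer {g : Coll P L} (hg2 : g * g = 1) (hg : g ≠ 1) (hno : ∀ a, ¬ Axis g a) :
    ∃ m : ℕ, 2 ≤ m ∧ ProjectivePlane.order P L = m ^ 2 ∧
      (∀ l : L, g • l = l → Nat.card {p : P // p ∈ l ∧ g • p = p} = m + 1) ∧
      (∀ p : P, g • p = p → Nat.card {l : L // p ∈ l ∧ g • l = l} = m + 1) := by
  classical
  haveI := Fintype.ofFinite P
  haveI := Fintype.ofFinite L
  set n := ProjectivePlane.order P L with hn
  set f := Nat.card {p : P // g • p = p} with hf
  have hsplit : ∀ (l : L), g • l = l →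
      Nat.card {p : P // p ∈ l ∧ g • p = p} + n = f := by
    intro l hl
    obtain ⟨X, hX, hXf⟩ : ∃ X, X ∈ l ∧ g • X ≠ X := by
      by_contra h
      push Not at h
      exact hno l h
    have h1 := card_fixed_off hg2 hl hX hXf
    rw [hn, ← h1, hf]
    simp only [Nat.card_eq_fintype_card, Fintype.card_subtype]
    rw [← Finset.card_union_of_disjoint (Finset.disjoint_filter.2 fun p _ a b => b.2 a.1)]
    congr 1
    ext p
    simp only [Finset.mem_union, Finset.mem_filter, Finset.mem_univ, true_and]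
    tauto
  have hsplit' : ∀ (p : P), g • p = p →
      Nat.card {l : L // p ∈ l ∧ g • l = l} + n = f := by
    intro p hp
    obtain ⟨x, hx, hxf⟩ : ∃ l : L, p ∈ l ∧ g • l ≠ l := by
      by_contra h
      push Not at h
      exact (Cen.exists_axis (g := g) (C := p) h).elim fun a ha => hno a ha
    have h1 := card_fixed_off (P := Dual L) (L := Dual P) (g := dualColl g)
      (by rw [← map_mul, hg2, map_one]) (m := p) hp (X := x) hx hxf
    have h1' : Nat.card {l : L // g • l = l ∧ p ∉ l} = n :=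
      Eq.trans h1 (ProjectivePlane.Dual.order P L)
    rw [hf, fix_count g, ← h1']
    simp only [Nat.card_eq_fintype_card, Fintype.card_subtype]
    rw [← Finset.card_union_of_disjoint (Finset.disjoint_filter.2 fun l _ a b => b.2 a.1)]
    congr 1
    ext l
    simp only [Finset.mem_union, Finset.mem_filter, Finset.mem_univ, true_and]
    tauto
  obtain ⟨Y, hY⟩ : ∃ Y : P, g • Y ≠ Y := by
    by_contra h
    push Not at h
    exact hg (eq_one_of_forall h)
  have hjoin : ∀ X : P, g • X ≠ X →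
      (Finset.univ.filter fun l : L => g • l = l ∧ X ∈ l).card = 1 := by
    intro X hX
    obtain ⟨l, hXl, hgXl⟩ := exists_join (L := L) (Ne.symm hX)
    rw [Finset.card_eq_one]
    refine ⟨l, Finset.ext fun m => ?_⟩
    simp only [Finset.mem_filter, Finset.mem_univ, true_and, Finset.mem_singleton]
    refine ⟨fun hm => line_eq (Ne.symm hX) hm.2 (smul_mem_of_mem hm.1 hm.2) hXl hgXl, fun hm => ?_⟩
    subst hm
    refine ⟨line_eq (Ne.symm hX) ?_ ((smul_mem_smul g X m).2 hXl) hXl hgXl, hXl⟩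
    have h := (smul_mem_smul g _ _).2 hgXl
    rwa [smul_smul, hg2, one_smul] at h
  obtain ⟨l₀, hl₀⟩ : ∃ l : L, g • l = l := by
    have h1 : 0 < (Finset.univ.filter fun l : L => g • l = l ∧ Y ∈ l).card := by
      rw [hjoin Y hY]; exact one_pos
    obtain ⟨l, hl⟩ := Finset.card_pos.1 h1
    exact ⟨l, (Finset.mem_filter.1 hl).2.1⟩
  set k := Nat.card {p : P // p ∈ l₀ ∧ g • p = p} with hk
  have hkf : k + n = f := hsplit l₀ hl₀
  have hcol : ∀ l : L, g • l = l →
      (Finset.univ.filter fun p : P => p ∈ l ∧ g • p ≠ p).card + k = n + 1 := by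
    intro l hl
    have h1 : Nat.card {p : P // p ∈ l ∧ g • p = p} = k := by
      have := hsplit l hl
      omega
    rw [← h1, ← card_on (P := P) l]
    simp only [Nat.card_eq_fintype_card, Fintype.card_subtype]
    rw [← Finset.card_union_of_disjoint (Finset.disjoint_filter.2 fun p _ a b => a.2 b.2)]
    congr 1
    ext p
    simp only [Finset.mem_union, Finset.mem_filter, Finset.mem_univ, true_and]
    tauto
  have hsum : ∑ l ∈ (Finset.univ.filter fun l : L => g • l = l),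
        (Finset.univ.filter fun p : P => p ∈ l ∧ g • p ≠ p).card =
      (Finset.univ.filter fun p : P => g • p ≠ p).card := by
    rw [Finset.card_eq_sum_ones (s := Finset.univ.filter fun p : P => g • p ≠ p)]
    rw [Finset.sum_congr rfl fun p hp => (hjoin p (Finset.mem_filter.1 hp).2).symm]
    simp only [Finset.card_filter]
    rw [Finset.sum_comm (s := Finset.univ.filter fun p : P => g • p ≠ p) (t := Finset.univ),
      Finset.sum_filter]
    refine Finset.sum_congr rfl fun l _ => ?_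
    by_cases hl : g • l = l
    · simp only [hl, if_true, true_and, Finset.sum_filter]
      refine Finset.sum_congr rfl fun p _ => ?_
      by_cases hp : g • p = p <;> simp [hp]
    · simp [hl]
  have hF : (Finset.univ.filter fun l : L => g • l = l).card = f := by
    rw [hf, fix_count g, Nat.card_eq_fintype_card, Fintype.card_subtype]
  have hV : (Finset.univ.filter fun p : P => g • p ≠ p).card + f = n ^ 2 + n + 1 := by
    rw [hf, ← card_points' (P := P) (L := L), Nat.card_eq_fintype_card, Nat.card_eq_fintype_card,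
      Fintype.card_subtype, add_comm]
    exact Finset.card_filter_add_card_filter_not (fun p : P => g • p = p)
  have htot : ∑ l ∈ (Finset.univ.filter fun l : L => g • l = l),
      ((Finset.univ.filter fun p : P => p ∈ l ∧ g • p ≠ p).card + k) = f * (n + 1) := by
    rw [Finset.sum_congr rfl fun l hl => hcol l (Finset.mem_filter.1 hl).2, Finset.sum_const, hF,
      smul_eq_mul]
  rw [Finset.sum_add_distrib, hsum, Finset.sum_const, hF, smul_eq_mul] at htot
  have hn2 : 1 < n := ProjectivePlane.one_lt_order P L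
  have hkey : (k : ℤ) * k - 2 * k + 1 = n := by
    have h1 : ((Finset.univ.filter fun p : P => g • p ≠ p).card : ℤ) + f = n ^ 2 + n + 1 := by
      exact_mod_cast hV
    have h2 : ((Finset.univ.filter fun p : P => g • p ≠ p).card : ℤ) + f * k = f * (n + 1) := by
      exact_mod_cast htot
    have h3 : (k : ℤ) + n = f := by exact_mod_cast hkf
    rw [← h3] at h1 h2
    linarith [h1, h2, (by ring : ((k : ℤ) + n) * k = k * k + n * k),
      (by ring : ((k : ℤ) + n) * (n + 1) = k * n + k + n * n + n), sq (n : ℤ)]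
  have hk3 : 3 ≤ k := by
    rcases Nat.lt_or_ge k 3 with hlt | hge
    · interval_cases k <;> omega
    · exact hge
  obtain ⟨m, hm⟩ : ∃ m, k = m + 1 := ⟨k - 1, by omega⟩
  have hnm : n = m ^ 2 := by
    have h : (n : ℤ) = (m : ℤ) ^ 2 := by rw [← hkey, hm]; push_cast; ring
    exact_mod_cast h
  refine ⟨m, by omega, hnm, fun l hl => ?_, fun p hp => ?_⟩
  · have := hsplit l hl; omega
  · have := hsplit' p hp; omega

theorem quad_zpowers {g : Coll P L} (hg2 : g * g = 1) (hg : g ≠ 1) (hno : ∀ a, ¬ Axis g a) :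
    Quad (Subgroup.zpowers g) := by
  classical
  haveI := Fintype.ofFinite P
  haveI := Fintype.ofFinite L
  obtain ⟨m, hm, -, hl, hp⟩ := baer hg2 hg hno
  obtain ⟨Y, hY⟩ : ∃ Y : P, g • Y ≠ Y := by
    by_contra h
    push Not at h
    exact hg (eq_one_of_forall h)
  obtain ⟨l₁, hYl, hgYl⟩ := exists_join (L := L) (Ne.symm hY)
  have hl₁ : g • l₁ = l₁ := by
    refine line_eq (Ne.symm hY) ?_ ((smul_mem_smul g Y l₁).2 hYl) hYl hgYl
    have h := (smul_mem_smul g _ _).2 hgYl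
    rwa [smul_smul, hg2, one_smul] at h
  have h3 : ∀ l : L, g • l = l → ∀ Z : P, ∃ A B : P, A ∈ l ∧ B ∈ l ∧ g • A = A ∧ g • B = B ∧
      A ≠ Z ∧ B ≠ Z ∧ A ≠ B := by
    intro l hgl Z
    have hc := hl l hgl
    rw [Nat.card_eq_fintype_card, Fintype.card_subtype] at hc
    have hc2 : 1 < ((Finset.univ.filter fun p : P => p ∈ l ∧ g • p = p).erase Z).card := by
      have := Finset.pred_card_le_card_erase (a := Z)
        (s := Finset.univ.filter fun p : P => p ∈ l ∧ g • p = p)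
      omega
    obtain ⟨A, hA, B, hB, hAB⟩ := Finset.one_lt_card.1 hc2
    simp only [Finset.mem_erase, Finset.mem_filter, Finset.mem_univ, true_and] at hA hB
    exact ⟨A, B, hA.2.1, hB.2.1, hA.2.2, hB.2.2, hA.1, hB.1, hAB⟩
  obtain ⟨Z, -, hZl, -, hgZ, -, -, -, -⟩ := h3 l₁ hl₁ Y
  obtain ⟨l₂, hZl₂, hl₂, hne⟩ : ∃ l₂ : L, Z ∈ l₂ ∧ g • l₂ = l₂ ∧ l₂ ≠ l₁ := by
    have hc := hp Z hgZ
    rw [Nat.card_eq_fintype_card, Fintype.card_subtype] at hc
    obtain ⟨l₂, hl₂, hne⟩ := Finset.exists_mem_ne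
      (s := Finset.univ.filter fun l : L => Z ∈ l ∧ g • l = l) (by omega) l₁
    simp only [Finset.mem_filter, Finset.mem_univ, true_and] at hl₂
    exact ⟨l₂, hl₂.1, hl₂.2, hne⟩
  obtain ⟨A, B, hAl, hBl, hA, hB, hAZ, hBZ, hAB⟩ := h3 l₁ hl₁ Z
  obtain ⟨C, D, hCl, hDl, hC, hD, hCZ, hDZ, hCD⟩ := h3 l₂ hl₂ Z
  have hfix : ∀ {Q : P}, g • Q = Q → ∀ h ∈ Subgroup.zpowers g, h • Q = Q := fun {Q} hQ h hh =>
    (Subgroup.zpowers_le.2 (MulAction.mem_stabilizer_iff.2 hQ) :
      Subgroup.zpowers g ≤ MulAction.stabilizer (Coll P L) Q) hh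
  refine ⟨A, B, C, D, hfix hA, hfix hB, hfix hC, hfix hD, fun l => ⟨?_, ?_, ?_, ?_⟩⟩
  · rintro ⟨h1, h2, h4⟩
    obtain rfl := line_eq hAB h1 h2 hAl hBl
    exact hCZ (point_eq (Ne.symm hne) h4 hCl hZl hZl₂)
  · rintro ⟨h1, h2, h4⟩
    obtain rfl := line_eq hAB h1 h2 hAl hBl
    exact hDZ (point_eq (Ne.symm hne) h4 hDl hZl hZl₂)
  · rintro ⟨h1, h2, h4⟩
    obtain rfl := line_eq hCD h2 h4 hCl hDl
    exact hAZ (point_eq (Ne.symm hne) hAl h1 hZl hZl₂)
  · rintro ⟨h1, h2, h4⟩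
    obtain rfl := line_eq hCD h2 h4 hCl hDl
    exact hBZ (point_eq (Ne.symm hne) hBl h1 hZl hZl₂)

end H27.OW
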