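import Cfsg.Agent.H27.OW.Fixed
import Cfsg.Agent.H27.OW.Homology

/-!
A collineation group transitive on ordered pairs of points contains a nontrivial perspectivity.
-/

set_option autoImplicit false
set_option linter.style.haveILetI false
set_option linter.unusedSectionVars false

namespace H27.OW

open Configuration

/-- `D` is a Sylow `p`-subgroup of `B`. -/
def SylowIn {G : Type*} [Group G] (p : ℕ) (B D : Subgroup G) : Prop :=
  D ≤ B ∧ IsPGroup p D ∧ ∃ m, Nat.card B = Nat.card D * m ∧ ¬ p ∣ m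

theorem exists_sylowIn {G : Type*} [Group G] [Finite G] {p : ℕ} [Fact p.Prime] (B T : Subgroup G)
    (hTB : T ≤ B) (hT : IsPGroup p T) : ∃ D, T ≤ D ∧ SylowIn p B D := by
  obtain ⟨S, hS⟩ := (hT.of_equiv (Subgroup.subgroupOfEquivOfLe hTB).symm).exists_le_sylow
  refine ⟨(S : Subgroup B).map B.subtype, fun t ht => ⟨⟨t, hTB ht⟩, hS ht, rfl⟩,
    Subgroup.map_subtype_le _, S.isPGroup'.map _, (S : Subgroup B).index, ?_, S.not_dvd_index⟩
  rw [Nat.card_congr (Subgroup.equivMapOfInjective (S : Subgroup B) B.subtype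
    B.subtype_injective).toEquiv.symm, Subgroup.card_mul_index]

theorem SylowIn.transfer {G : Type*} [Group G] {p : ℕ} {B B' D : Subgroup G} (h : SylowIn p B D)
    (hD : D ≤ B') (hc : Nat.card B' = Nat.card B) : SylowIn p B' D :=
  ⟨hD, h.2.1, h.2.2.imp fun _ hm => ⟨hc.trans hm.1, hm.2⟩⟩

theorem SylowIn.conj {G : Type*} [Group G] [Finite G] {p : ℕ} [Fact p.Prime] {B D D' : Subgroup G}
    (h : SylowIn p B D) (h' : SylowIn p B D') :
    ∃ x ∈ B, ∀ y, y ∈ D ↔ x * y * x⁻¹ ∈ D' := by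
  have mk : ∀ E, SylowIn p B E → ∃ S : Sylow p B, (S : Subgroup B) = E.subgroupOf B := by
    rintro E ⟨hE, hEp, m, hm, hpm⟩
    have hi : ¬ p ∣ (E.subgroupOf B).index := by
      have h1 := (E.subgroupOf B).card_mul_index
      rw [Nat.card_congr (Subgroup.subgroupOfEquivOfLe hE).toEquiv, hm] at h1
      rw [Nat.eq_of_mul_eq_mul_left Nat.card_pos h1]
      exact hpm
    exact ⟨(hEp.of_equiv (Subgroup.subgroupOfEquivOfLe hE).symm).toSylow hi, rfl⟩
  obtain ⟨S, hS⟩ := mk D h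
  obtain ⟨S', hS'⟩ := mk D' h'
  obtain ⟨x, hx⟩ := MulAction.exists_smul_eq B S S'
  refine ⟨x, x.2, fun y => ⟨fun hy => ?_, fun hy => ?_⟩⟩
  · have h1 : x * ⟨y, h.1 hy⟩ * x⁻¹ ∈ (S' : Subgroup B) := by
      rw [← hx, Sylow.coe_subgroup_smul]
      exact ⟨⟨y, h.1 hy⟩, by rw [hS]; exact hy, rfl⟩
    rw [hS'] at h1
    exact h1
  · have hyB : y ∈ B := by
      have h1 := mul_mem (mul_mem (inv_mem x.2) (h'.1 hy)) x.2
      simpa [mul_assoc] using h1
    have h1 : x * ⟨y, hyB⟩ * x⁻¹ ∈ (S' : Subgroup B) := by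
      rw [hS']; exact hy
    rw [← hx, Sylow.coe_subgroup_smul] at h1
    obtain ⟨w, hw, he⟩ := h1
    have he' : w = ⟨y, hyB⟩ := by
      change x * w * x⁻¹ = x * ⟨y, hyB⟩ * x⁻¹ at he
      exact mul_left_cancel (mul_right_cancel he)
    rw [he'] at hw
    change (⟨y, hyB⟩ : B) ∈ (S : Subgroup B) at hw
    rw [hS] at hw
    exact hw

/-- The orbit of a Sylow subgroup is divisible by the `p`-part of the whole orbit. -/
theorem SylowIn.dvd_orbit {G X : Type*} [Group G] [Finite G] [MulAction G X] {p : ℕ} [Fact p.Prime]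
    {B D : Subgroup G} (h : SylowIn p B D) {x : X} {a : ℕ}
    (ha : p ^ a ∣ Nat.card {y : X // ∃ b ∈ B, b • x = y}) :
    p ^ a ∣ Nat.card {y : X // ∃ d ∈ D, d • x = y} := by
  obtain ⟨hDB, hDp, m, hm, hpm⟩ := h
  obtain ⟨f, hf⟩ := IsPGroup.iff_card.1 (hDp.to_le (inf_le_left :
    D ⊓ MulAction.stabilizer G x ≤ D))
  have h1 : p ^ f ∣ Nat.card ↥(B ⊓ MulAction.stabilizer G x) :=
    hf ▸ Subgroup.card_dvd_of_le (inf_le_inf_right _ hDB)
  have h2 : p ^ (a + f) ∣ Nat.card D * m := by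
    rw [← hm, card_orbit_mul B x, pow_add]
    exact mul_dvd_mul ha h1
  have h3 : p ^ (a + f) ∣ Nat.card D :=
    (Nat.Coprime.pow_left _ ((Fact.out : p.Prime).coprime_iff_not_dvd.2 hpm)).dvd_of_dvd_mul_right h2
  rw [card_orbit_mul D x, hf, pow_add] at h3
  exact Nat.dvd_of_mul_dvd_mul_right (pow_pos (Fact.out : p.Prime).pos f) h3

theorem dvd_card_invariant {G X : Type*} [Group G] [MulAction G X] [Finite X] (D : Subgroup G)
    (d : ℕ) (S : Set X) (hS : ∀ g ∈ D, ∀ x ∈ S, g • x ∈ S)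
    (h : ∀ x ∈ S, d ∣ Nat.card {y : X // ∃ g ∈ D, g • x = y}) : d ∣ Nat.card S := by
  have key : ∀ k, ∀ S : Set X, S.ncard ≤ k → (∀ g ∈ D, ∀ x ∈ S, g • x ∈ S) →
      (∀ x ∈ S, d ∣ Nat.card {y : X // ∃ g ∈ D, g • x = y}) → d ∣ S.ncard := by
    intro k
    induction k with
    | zero => intro S hk _ _; rw [Nat.le_zero.1 hk]; exact dvd_zero d
    | succ k ih =>
      intro S hk hS h
      rcases S.eq_empty_or_nonempty with rfl | ⟨x, hx⟩
      · simp
      set O : Set X := {y | ∃ g ∈ D, g • x = y} with hO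
      have hOS : O ⊆ S := by
        rintro _ ⟨g, hg, rfl⟩
        exact hS g hg x hx
      have hO0 : 0 < O.ncard := (Set.ncard_pos (Set.toFinite _)).2 ⟨x, 1, one_mem D, one_smul _ x⟩
      have hc := Set.ncard_sdiff_add_ncard_of_subset hOS
      have h1 : d ∣ (S \ O).ncard := by
        refine ih _ (by omega) ?_ fun y hy => h y hy.1
        rintro g hg y ⟨hyS, hyO⟩
        refine ⟨hS g hg y hyS, fun ⟨g', hg', he⟩ => hyO ⟨g⁻¹ * g', mul_mem (inv_mem hg) hg', ?_⟩⟩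
        rw [mul_smul, he, inv_smul_smul]
      have h2 : d ∣ O.ncard := by
        have := h x hx
        rwa [← Nat.card_coe_set_eq]
      rw [← hc]
      exact dvd_add h1 h2
  rw [Nat.card_coe_set_eq]
  exact key _ S le_rfl hS h

theorem exists_central {G : Type*} [Group G] [Finite G] {p : ℕ} [Fact p.Prime] (D : Subgroup G)
    (hD : IsPGroup p D) (h1 : D ≠ ⊥) :
    ∃ g ∈ D, orderOf g = p ∧ ∀ d ∈ D, d * g = g * d := by
  haveI : Nontrivial D := (Subgroup.nontrivial_iff_ne_bot D).2 h1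
  have hc := hD.center_nontrivial
  obtain ⟨k, hk, hcard⟩ := (hD.to_subgroup (Subgroup.center D)).nontrivial_iff_card.1 hc
  obtain ⟨z, hz⟩ := exists_prime_orderOf_dvd_card' p (hcard ▸ dvd_pow_self p (by omega) :
    p ∣ Nat.card (Subgroup.center D))
  refine ⟨((z : D) : G), (z : D).2, by rw [Subgroup.orderOf_coe, Subgroup.orderOf_coe, hz],
    fun d hd => ?_⟩
  exact congrArg Subtype.val (Subgroup.mem_center_iff.1 z.2 ⟨d, hd⟩)

theorem exists_invol_pow {G : Type*} [Group G] [Finite G] {g : G} (h : 2 ∣ orderOf g) :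
    g ^ (orderOf g / 2) ≠ 1 ∧ g ^ (orderOf g / 2) * g ^ (orderOf g / 2) = 1 := by
  have h1 : orderOf (g ^ (orderOf g / 2)) = 2 := orderOf_pow_orderOf_div (orderOf_pos g).ne' h
  refine ⟨fun he => by rw [he, orderOf_one] at h1; omega, ?_⟩
  rw [← pow_two]
  conv_lhs => arg 2; rw [← h1]
  exact pow_orderOf_eq_one _

theorem exists_invol_swap {G X : Type*} [Group G] [Finite G] [MulAction G X] {g : G} {x : X}
    (h1 : g • x ≠ x) (h2 : g • g • x = x) : 2 ∣ orderOf g := by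
  by_contra h
  obtain ⟨k, hk⟩ : Odd (orderOf g) := Nat.not_even_iff_odd.1 fun he => h he.two_dvd
  apply h1
  have h3 : g ^ 2 ∈ MulAction.stabilizer G x := by
    rw [MulAction.mem_stabilizer_iff, pow_two, mul_smul, h2]
  have h4 : g ∈ MulAction.stabilizer G x := by
    have h5 := pow_mem h3 (k + 1)
    rwa [← pow_mul, show 2 * (k + 1) = orderOf g + 1 by omega, pow_succ, pow_orderOf_eq_one,
      one_mul] at h5
  exact h4

variable {P L : Type*} [Membership P L] [ProjectivePlane P L] [Finite P] [Finite L]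
variable {G : Subgroup (Coll P L)}

/-- The stabiliser of two points in `G`. -/
def pairStab (G : Subgroup (Coll P L)) (A B : P) : Subgroup (Coll P L) :=
  G ⊓ MulAction.stabilizer (Coll P L) A ⊓ MulAction.stabilizer (Coll P L) B

theorem mem_pairStab {A B : P} {g : Coll P L} :
    g ∈ pairStab G A B ↔ g ∈ G ∧ g • A = A ∧ g • B = B := and_assoc

theorem TwoTransPts.card_pairStab (h2 : TwoTransPts G) {A B A' B' : P} (h : A ≠ B) (h' : A' ≠ B') :
    Nat.card (pairStab G A' B') = Nat.card (pairStab G A B) := by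
  obtain ⟨g, hg, rfl, rfl⟩ := h2 A B A' B' h h'
  refine Nat.card_congr
    { toFun := fun x => ⟨g⁻¹ * x.1 * g, mem_pairStab.2 ⟨?_, ?_, ?_⟩⟩
      invFun := fun x => ⟨g * x.1 * g⁻¹, mem_pairStab.2 ⟨?_, ?_, ?_⟩⟩
      left_inv := fun x => Subtype.ext (by simp [mul_assoc])
      right_inv := fun x => Subtype.ext (by simp [mul_assoc]) }
  · exact mul_mem (mul_mem (inv_mem hg) (mem_pairStab.1 x.2).1) hg
  · rw [mul_smul, mul_smul, (mem_pairStab.1 x.2).2.1, inv_smul_smul]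
  · rw [mul_smul, mul_smul, (mem_pairStab.1 x.2).2.2, inv_smul_smul]
  · exact mul_mem (mul_mem hg (mem_pairStab.1 x.2).1) (inv_mem hg)
  · rw [mul_smul, mul_smul, inv_smul_smul, (mem_pairStab.1 x.2).2.1]
  · rw [mul_smul, mul_smul, inv_smul_smul, (mem_pairStab.1 x.2).2.2]

theorem TwoTransPts.line_orbit_dvd (h2 : TwoTransPts G) {p a : ℕ} [Fact p.Prime]
    (ha : p ^ a ∣ ProjectivePlane.order P L) {M N : P} {l y : L} (hM : M ∈ l) (hN : N ∈ l)
    (hMN : M ≠ N) {D : Subgroup (Coll P L)} (hD : SylowIn p (pairStab G M N) D) (hy : N ∈ y)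
    (hyl : y ≠ l) : p ^ a ∣ Nat.card {z : L // ∃ d ∈ D, d • y = z} := by
  refine hD.dvd_orbit ?_
  rw [Nat.card_congr (Equiv.subtypeEquivRight fun z => (?_ :
    (∃ b ∈ pairStab G M N, b • y = z) ↔ N ∈ z ∧ z ≠ l)), card_at_ne hN]
  · exact ha
  constructor
  · rintro ⟨b, hb, rfl⟩
    obtain ⟨-, h1, h3⟩ := mem_pairStab.1 hb
    refine ⟨smul_mem_of_fix h3 hy, fun he => hyl (MulAction.injective b ?_)⟩
    exact he.trans (smul_eq_of_two hMN hM hN h1 h3).symm
  · rintro ⟨hz, hzl⟩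
    obtain ⟨b, hb, h1, h3, h4⟩ := h2.lines_at hM hN hMN hy hz hyl hzl
    exact ⟨b, mem_pairStab.2 ⟨hb, h1, h3⟩, h4⟩

theorem TwoTransPts.order_ne_prime_pow (h2 : TwoTransPts G)
    (hno : ∀ g ∈ G, g ≠ 1 → ∀ a, ¬ Axis g a) {p a : ℕ} (hp : p.Prime) :
    ProjectivePlane.order P L ≠ p ^ a := by
  classical
  intro hn
  haveI : Fact p.Prime := ⟨hp⟩
  have hn1 := ProjectivePlane.one_lt_order P L
  obtain ⟨M₀, -, -, l, -⟩ := (inferInstance : ProjectivePlane P L).exists_config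
  obtain ⟨M, hM⟩ := exists_mem (P := P) l
  obtain ⟨N, hN, hNM⟩ := exists_mem_ne l M
  obtain ⟨D, -, hD⟩ := exists_sylowIn (p := p) (pairStab G M N) ⊥ bot_le IsPGroup.of_bot
  have hDG : ∀ d ∈ D, d ∈ G := fun d hd => (mem_pairStab.1 (hD.1 hd)).1
  have hDM : ∀ d ∈ D, d • M = M := fun d hd => (mem_pairStab.1 (hD.1 hd)).2.1
  have hDN : ∀ d ∈ D, d • N = N := fun d hd => (mem_pairStab.1 (hD.1 hd)).2.2
  have hDl : ∀ d ∈ D, d • l = l := fun d hd =>
    smul_eq_of_two (Ne.symm hNM) hM hN (hDM d hd) (hDN d hd)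
  have trans : ∀ A, A ∈ l → (∀ d ∈ D, d • A = A) → ∀ y z : L, A ∈ y → y ≠ l → A ∈ z → z ≠ l →
      ∃ d ∈ D, d • y = z := by
    intro A hA hDA y z hy hyl hz hzl
    obtain ⟨B, hB, hBA, hDB⟩ : ∃ B, B ∈ l ∧ B ≠ A ∧ ∀ d ∈ D, d • B = B := by
      by_cases h : A = M
      · exact ⟨N, hN, h ▸ hNM, hDN⟩
      · exact ⟨M, hM, Ne.symm h, hDM⟩
    have hD' : SylowIn p (pairStab G B A) D := hD.transfer
      (fun d hd => mem_pairStab.2 ⟨hDG d hd, hDB d hd, hDA d hd⟩)
      (h2.card_pairStab (Ne.symm hNM) hBA)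
    have h1 := h2.line_orbit_dvd (a := a) (hn ▸ dvd_rfl) hB hA hBA hD' hy hyl
    rw [← hn] at h1
    have hpos : 0 < Nat.card {w : L // ∃ d ∈ D, d • y = w} := by
      haveI : Nonempty {w : L // ∃ d ∈ D, d • y = w} := ⟨⟨y, 1, one_mem D, one_smul _ y⟩⟩
      exact Nat.card_pos
    have hinj : Function.Injective (fun w : {w : L // ∃ d ∈ D, d • y = w} =>
        (⟨w.1, by
          obtain ⟨d, hd, he⟩ := w.2
          rw [← he]
          exact ⟨smul_mem_of_fix (hDA d hd) hy,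
            fun h => hyl (MulAction.injective d (h.trans (hDl d hd).symm))⟩⟩ :
          {w : L // A ∈ w ∧ w ≠ l})) :=
      fun w w' he => Subtype.ext (congrArg (fun v : {w : L // A ∈ w ∧ w ≠ l} => v.1) he)
    have hle : Nat.card {w : L // A ∈ w ∧ w ≠ l} ≤ Nat.card {w : L // ∃ d ∈ D, d • y = w} := by
      rw [card_at_ne hA]
      exact Nat.le_of_dvd hpos h1
    obtain ⟨⟨w, d, hd, he⟩, hw⟩ := (hinj.bijective_of_nat_card_le hle).2 ⟨z, hz, hzl⟩
    exact ⟨d, hd, he.trans (congrArg Subtype.val hw)⟩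
  have hDne : D ≠ ⊥ := by
    intro hbot
    obtain ⟨y, hy, hyl⟩ := exists_through_ne N l
    obtain ⟨z, hz, hzl, hzy⟩ := exists_through_ne_ne N l y
    obtain ⟨d, hd, he⟩ := trans N hN hDN y z hy hyl hz hzl
    rw [hbot, Subgroup.mem_bot] at hd
    rw [hd, one_smul] at he
    exact hzy he.symm
  obtain ⟨g, hg, hgo, hgc⟩ := exists_central D hD.2.1 hDne
  have hg1 : g ≠ 1 := fun he => by rw [he, orderOf_one] at hgo; exact hp.ne_one hgo.symm
  have hcomm : ∀ (d : Coll P L), d ∈ D → ∀ y : L, g • y = y → g • d • y = d • y :=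
    fun d hd y hy => by rw [smul_smul, ← hgc d hd, mul_smul, hy]
  have hcen : ∀ A, A ∈ l → (∀ d ∈ D, d • A = A) → ∀ y : L, A ∈ y → y ≠ l → g • y = y → False := by
    intro A hA hDA y hy hyl hgy
    obtain ⟨c, hc⟩ : ∃ c, Axis g c := by
      refine Cen.exists_axis (C := A) fun z hz => ?_
      by_cases hzl : z = l
      · rw [hzl]; exact hDl g hg
      · obtain ⟨d, hd, rfl⟩ := trans A hA hDA y z hy hyl hz hzl
        exact hcomm d hd y hgy
    exact hno g (hDG g hg) hg1 c hc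
  by_cases hX : ∃ X : P, X ∉ l ∧ g • X = X
  · obtain ⟨X, hXl, hgX⟩ := hX
    obtain ⟨y, hMy, hXy⟩ := exists_join (L := L) (show M ≠ X from fun he => hXl (he ▸ hM))
    exact hcen M hM hDM y hMy (fun he => hXl (he ▸ hXy))
      (smul_eq_of_two (fun he : M = X => hXl (he ▸ hM)) hMy hXy (hDM g hg) hgX)
  push Not at hX
  obtain ⟨y, hgy, hyl⟩ : ∃ y : L, g • y = y ∧ y ≠ l := by
    haveI : Nontrivial {q : P // g • q = q} :=
      ⟨⟨M, hDM g hg⟩, ⟨N, hDN g hg⟩, fun he => hNM (congrArg Subtype.val he).symm⟩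
    have h1 : 1 < Nat.card {w : L // g • w = w} := by
      rw [← fix_count g]
      exact Finite.one_lt_card
    haveI := Finite.one_lt_card_iff_nontrivial.1 h1
    obtain ⟨⟨y, hy⟩, hne⟩ := exists_ne (⟨l, hDl g hg⟩ : {w : L // g • w = w})
    exact ⟨y, hy, fun he => hne (Subtype.ext he)⟩
  obtain ⟨A, hAy, hAl⟩ := exists_meet (P := P) hyl
  refine hcen A hAl (fun d hd => ?_) y hAy hyl hgy
  have hdl : d • A ∈ l := smul_mem_of_mem (hDl d hd) hAl
  by_cases hdy : d • y = y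
  · exact point_eq hyl (smul_mem_of_mem hdy hAy) hdl hAy hAl
  obtain ⟨X, hX1, hX2⟩ := exists_meet (P := P) hdy
  have hXfix : g • X = X := smul_eq_of_two' hdy hX1 hX2 (hcomm d hd y hgy) hgy
  by_cases hXl : X ∈ l
  · have e1 : X = A := point_eq hyl hX2 hXl hAy hAl
    have e2 : X = d • A := point_eq (fun he : d • y = l => hyl (MulAction.injective d
      (he.trans (hDl d hd).symm))) hX1 hXl ((smul_mem_smul d A y).2 hAy) hdl
    rw [← e2, e1]
  · exact absurd hXfix (hX X hXl)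

theorem TwoTransPts.exists_invol (h2 : TwoTransPts G) : ∃ g ∈ G, g ≠ 1 ∧ g * g = 1 := by
  obtain ⟨M₀, -, -, l, -⟩ := (inferInstance : ProjectivePlane P L).exists_config
  obtain ⟨M, hM⟩ := exists_mem (P := P) l
  obtain ⟨N, hN, hNM⟩ := exists_mem_ne l M
  obtain ⟨g, hg, h1, h3⟩ := h2 M N N M (Ne.symm hNM) hNM
  have he := exists_invol_swap (g := g) (x := M) (by rw [h1]; exact hNM) (by rw [h1, h3])
  exact ⟨_, pow_mem hg _, (exists_invol_pow he).1, (exists_invol_pow he).2⟩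

theorem TwoTransPts.order_odd (h2 : TwoTransPts G) (hno : ∀ g ∈ G, g ≠ 1 → ∀ a, ¬ Axis g a) :
    Odd (ProjectivePlane.order P L) := by
  classical
  haveI : Fact (Nat.Prime 2) := ⟨Nat.prime_two⟩
  obtain ⟨u, hu, hu1, hu2⟩ := h2.exists_invol
  obtain ⟨m, hm2, hnm, -, -⟩ := baer hu2 hu1 (hno u hu hu1)
  rw [← Nat.not_even_iff_odd]
  intro hev
  obtain ⟨b, m', hm'o, hm'⟩ := Nat.exists_eq_two_pow_mul_odd (show m ≠ 0 by omega)
  have hb : 1 ≤ b := by
    by_contra hb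
    rw [show b = 0 by omega, pow_zero, one_mul] at hm'
    rw [hnm, hm', Nat.even_pow] at hev
    exact (Nat.not_even_iff_odd.2 hm'o) hev.1
  obtain ⟨M₀, -, -, l, -⟩ := (inferInstance : ProjectivePlane P L).exists_config
  obtain ⟨N, hN⟩ := exists_mem (P := P) l
  obtain ⟨M, hM, hMN⟩ := exists_mem_ne l N
  obtain ⟨D, -, hD⟩ := exists_sylowIn (p := 2) (pairStab G M N) ⊥ bot_le IsPGroup.of_bot
  have hdvd : ∀ y : L, N ∈ y → y ≠ l → 2 ^ (2 * b) ∣ Nat.card {z : L // ∃ d ∈ D, d • y = z} :=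
    fun y hy hyl => h2.line_orbit_dvd (p := 2) (a := 2 * b)
      ⟨m' ^ 2, by rw [hnm, hm', mul_pow, ← pow_mul, mul_comm b 2]⟩ hM hN hMN hD hy hyl
  have hDne : D ≠ ⊥ := by
    intro hbot
    obtain ⟨y, hy, hyl⟩ := exists_through_ne N l
    have h1 := hdvd y hy hyl
    haveI : Subsingleton {z : L // ∃ d ∈ D, d • y = z} := ⟨by
      rintro ⟨z, d, hd, rfl⟩ ⟨z', d', hd', rfl⟩
      rw [hbot, Subgroup.mem_bot] at hd hd'
      exact Subtype.ext (congrArg (· • y) (hd.trans hd'.symm))⟩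
    have h3 := Finite.card_le_one_iff_subsingleton.2 ‹Subsingleton {z : L // ∃ d ∈ D, d • y = z}›
    have h4 : 0 < Nat.card {z : L // ∃ d ∈ D, d • y = z} := by
      haveI : Nonempty {z : L // ∃ d ∈ D, d • y = z} := ⟨⟨y, 1, one_mem D, one_smul _ y⟩⟩
      exact Nat.card_pos
    have h5 := Nat.le_of_dvd h4 h1
    have h6 : 1 < 2 ^ (2 * b) := Nat.one_lt_two_pow (by omega)
    omega
  obtain ⟨g, hg, hgo, hgc⟩ := exists_central D hD.2.1 hDne
  obtain ⟨hgG, hgM, hgN⟩ := mem_pairStab.1 (hD.1 hg)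
  have hg1 : g ≠ 1 := fun he => by rw [he, orderOf_one] at hgo; omega
  have hg2 : g * g = 1 := by
    rw [← pow_two]
    conv_lhs => arg 2; rw [← hgo]
    exact pow_orderOf_eq_one g
  obtain ⟨m₁, -, hnm₁, -, hlines⟩ := baer hg2 hg1 (hno g hgG hg1)
  have hmm : m₁ = m := Nat.pow_left_injective two_ne_zero (hnm₁.symm.trans hnm)
  subst hmm
  have h1 := hlines N hgN
  set S : Set L := {y | (N ∈ y ∧ g • y = y) ∧ y ≠ l} with hS
  have hgl : g • l = l := smul_eq_of_two hMN hM hN hgM hgN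
  have hSc : Nat.card S = m₁ := by
    have h3 : S = {y | N ∈ y ∧ g • y = y} \ {l} := by
      ext y; simp [hS]
    rw [Nat.card_coe_set_eq, h3, Set.ncard_sdiff_singleton_of_mem (show l ∈ {y : L | N ∈ y ∧ g • y = y}
      from ⟨hN, hgl⟩)]
    change Nat.card ↥{y : L | N ∈ y ∧ g • y = y} = _ at h1
    rw [Nat.card_coe_set_eq] at h1
    omega
  have h4 : 2 ^ (2 * b) ∣ Nat.card S := by
    refine dvd_card_invariant D _ S ?_ fun y hy => hdvd y hy.1.1 hy.2
    rintro d hd y ⟨⟨hy, hgy⟩, hyl⟩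
    obtain ⟨-, hdM, hdN⟩ := mem_pairStab.1 (hD.1 hd)
    refine ⟨⟨smul_mem_of_fix hdN hy, by rw [smul_smul, ← hgc d hd, mul_smul, hgy]⟩, fun he => ?_⟩
    exact hyl (MulAction.injective d (he.trans (smul_eq_of_two hMN hM hN hdM hdN).symm))
  rw [hSc, hm', two_mul, pow_add] at h4
  have h5 := Nat.dvd_of_mul_dvd_mul_left (Nat.two_pow_pos b) h4
  exact (Nat.not_even_iff_odd.2 hm'o) (even_iff_two_dvd.2 ((dvd_pow_self 2 (by omega)).trans h5))

/-- **Step 2.** A group transitive on ordered pairs of points contains a perspectivity. -/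
theorem TwoTransPts.exists_persp (h2 : TwoTransPts G) : ∃ g ∈ G, g ≠ 1 ∧ ∃ a, Axis g a := by
  classical
  by_contra hcon
  push Not at hcon
  have hno : ∀ g ∈ G, g ≠ 1 → ∀ a, ¬ Axis g a := hcon
  haveI : Fact (Nat.Prime 2) := ⟨Nat.prime_two⟩
  have hodd := h2.order_odd hno
  obtain ⟨u, hu, hu1, hu2⟩ := h2.exists_invol
  set 𝒯 : Set (Subgroup (Coll P L)) := {T | T ≤ G ∧ IsPGroup 2 T ∧ Quad T} with h𝒯
  have hne : 𝒯.Nonempty := by
    refine ⟨Subgroup.zpowers u, Subgroup.zpowers_le.2 hu, ?_, quad_zpowers hu2 hu1 (hno u hu hu1)⟩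
    exact IsPGroup.of_card (n := 1) (by
      rw [Nat.card_zpowers, pow_one]
      exact orderOf_eq_prime (by rw [pow_two]; exact hu2) hu1)
  obtain ⟨T, ⟨hTG, hTp, hTQ⟩, hmax⟩ := Set.exists_max_image 𝒯 (fun T => Nat.card T) (Set.toFinite _)
    hne
  obtain ⟨k, hk⟩ := IsPGroup.iff_card.1 hTp
  obtain ⟨i, hi⟩ := order_chain k T hk hTQ
  letI := fixPlane hTQ
  set r := ProjectivePlane.order (FixPt T) (FixLn T) with hr
  have hrodd : Odd r := by
    rw [hi, Nat.odd_pow_iff (pow_ne_zero i two_ne_zero)] at hodd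
    exact hodd
  set Nz := Subgroup.normalizer (T : Set (Coll P L)) with hNz
  set Hb : Subgroup (Coll (FixPt T) (FixLn T)) := (G.subgroupOf Nz).map (resHom T) with hHb
  -- a 2-element of the normaliser acting trivially on the fixed plane lies in `T`
  have hker : ∀ x (hx : x ∈ Nz), x ∈ G → IsPGroup 2 (Subgroup.zpowers x) →
      (∃ A B C D : FixPt T, NoThree (L := L) A.1 B.1 C.1 D.1 ∧
        x • A.1 = A.1 ∧ x • B.1 = B.1 ∧ x • C.1 = C.1 ∧ x • D.1 = D.1) → x ∈ T := by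
    rintro x hx hxG hxp ⟨A, B, C, D, hq, hA, hB, hC, hD⟩
    have hmem : T ⊔ Subgroup.zpowers x ∈ 𝒯 := by
      refine ⟨sup_le hTG (Subgroup.zpowers_le.2 hxG),
        IsPGroup.to_sup_of_normal_left' hTp hxp (Subgroup.zpowers_le.2 hx), ?_⟩
      have hf : ∀ (Q : FixPt T), x • Q.1 = Q.1 → ∀ g ∈ T ⊔ Subgroup.zpowers x, g • Q.1 = Q.1 :=
        fun Q hQ g hg => (sup_le (fun t ht => Q.2 t ht)
          (Subgroup.zpowers_le.2 hQ) : T ⊔ Subgroup.zpowers x ≤ MulAction.stabilizer _ Q.1) hg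
      exact ⟨A.1, B.1, C.1, D.1, hf A hA, hf B hB, hf C hC, hf D hD, hq⟩
    have heq := Subgroup.eq_of_le_of_card_ge le_sup_left (hmax _ hmem)
    exact heq ▸ Subgroup.mem_sup_right (Subgroup.mem_zpowers x)
  have hone : ∀ x (hx : x ∈ Nz), x ∈ T → resHom T ⟨x, hx⟩ = 1 := fun x hx hxT =>
    eq_one_of_forall fun Q => Subtype.ext (Q.2 x hxT)
  have hallhom : AllHom Hb := by
    rintro σ ⟨⟨x, hx⟩, hxG, rfl⟩ hσ2 hσ1
    by_cases hax : ∃ a, Axis (resHom T ⟨x, hx⟩) a
    · obtain ⟨a, ha⟩ := hax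
      obtain ⟨C, hC⟩ := ha.exists_cen
      refine ⟨C, a, fun hCa => ?_, hC, ha⟩
      obtain ⟨y, hCy, hya⟩ := exists_through_ne C a
      haveI := Fintype.ofFinite (FixPt T)
      set σ := resHom T ⟨x, hx⟩
      have hgy : σ • y = y := hC y hCy
      have h1 := invol_parity (fun Q : FixPt T => σ • Q)
        (Finset.univ.filter fun Q : FixPt T => Q ∈ y ∧ Q ≠ C) (fun Q hQ => by
          simp only [Finset.mem_filter, Finset.mem_univ, true_and] at hQ ⊢
          exact ⟨smul_mem_of_mem hgy hQ.1,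
            fun he => hQ.2 (MulAction.injective σ (he.trans hC.smul_point.symm))⟩)
        (fun Q _ => by rw [smul_smul, hσ2, one_smul])
      have h3 : ((Finset.univ.filter fun Q : FixPt T => Q ∈ y ∧ Q ≠ C).filter
          fun Q => σ • Q = Q) = ∅ := by
        refine Finset.filter_false_of_mem fun Q hQ he => ?_
        simp only [Finset.mem_filter, Finset.mem_univ, true_and] at hQ
        rcases point_cases ha hC hσ1 he with h | h
        · exact hQ.2 (point_eq hya hQ.1 h hCy hCa)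
        · exact hQ.2 h
      rw [h3, Finset.card_empty, ← Fintype.card_subtype, ← Nat.card_eq_fintype_card,
        card_on_ne hCy] at h1
      rw [Nat.odd_iff] at hrodd
      omega
    · push Not at hax
      obtain ⟨A, B, C, D, hA, hB, hC, hD, hq⟩ := quad_zpowers hσ2 hσ1 hax
      obtain ⟨s, o, ho, hxo⟩ := Nat.exists_eq_two_pow_mul_odd (orderOf_pos x).ne'
      set x' := x ^ o with hx'
      have hx'N : x' ∈ Nz := pow_mem hx o
      have hres : resHom T ⟨x', hx'N⟩ = resHom T ⟨x, hx⟩ := by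
        rw [show (⟨x', hx'N⟩ : Nz) = ⟨x, hx⟩ ^ o from Subtype.ext rfl, map_pow]
        obtain ⟨j, rfl⟩ := ho
        rw [pow_succ, pow_mul, pow_two, hσ2, one_pow, one_mul]
      have hx'p : IsPGroup 2 (Subgroup.zpowers x') := by
        refine IsPGroup.of_card (n := s) ?_
        rw [Nat.card_zpowers, hx', orderOf_pow' _ ho.pos.ne', hxo,
          Nat.gcd_eq_right (Dvd.intro_left _ rfl), Nat.mul_div_cancel _ ho.pos]
      have hfix : ∀ Q : FixPt T, (∀ τ ∈ Subgroup.zpowers (resHom T ⟨x, hx⟩), τ • Q = Q) →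
          x' • Q.1 = Q.1 := fun Q hQ => by
        have h1 := hQ _ (Subgroup.mem_zpowers _)
        rw [← hres] at h1
        exact congrArg Subtype.val h1
      have hqP : NoThree (L := L) A.1 B.1 C.1 D.1 := by
        intro l
        have key : ∀ X Y : FixPt T, X ≠ Y → X.1 ∈ l → Y.1 ∈ l →
            ∃ m : FixLn T, m.1 = l := fun X Y hne h1 h2 =>
          ⟨⟨l, fun g hg => smul_eq_of_two (fun he => hne (Subtype.ext he)) h1 h2 (X.2 g hg)
            (Y.2 g hg)⟩, rfl⟩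
        have hne : A ≠ B ∧ A ≠ C ∧ B ≠ C := by
          refine ⟨?_, ?_, ?_⟩ <;> intro he <;> subst he
          · obtain ⟨m, h1, h2⟩ := exists_join' (L := FixLn T) A C
            exact (hq m).1 ⟨h1, h1, h2⟩
          · obtain ⟨m, h1, h2⟩ := exists_join' (L := FixLn T) A B
            exact (hq m).1 ⟨h1, h2, h1⟩
          · obtain ⟨m, h1, h2⟩ := exists_join' (L := FixLn T) A B
            exact (hq m).1 ⟨h1, h2, h2⟩
        refine ⟨?_, ?_, ?_, ?_⟩
        · rintro ⟨h1, h2, h4⟩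
          obtain ⟨m, rfl⟩ := key A B hne.1 h1 h2
          exact (hq m).1 ⟨h1, h2, h4⟩
        · rintro ⟨h1, h2, h4⟩
          obtain ⟨m, rfl⟩ := key A B hne.1 h1 h2
          exact (hq m).2.1 ⟨h1, h2, h4⟩
        · rintro ⟨h1, h2, h4⟩
          obtain ⟨m, rfl⟩ := key A C hne.2.1 h1 h2
          exact (hq m).2.2.1 ⟨h1, h2, h4⟩
        · rintro ⟨h1, h2, h4⟩
          obtain ⟨m, rfl⟩ := key B C hne.2.2 h1 h2
          exact (hq m).2.2.2 ⟨h1, h2, h4⟩
      exact absurd (hres ▸ hone x' hx'N (hker x' hx'N (pow_mem hxG o) hx'p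
        ⟨A, B, C, D, hqP, hfix A hA, hfix B hB, hfix C hC, hfix D hD⟩)) hσ1
  have hpairs : PairsFixed Hb := by
    by_cases hQ : ∀ A B : P, A ≠ B → ∃ m, Nat.card (pairStab G A B) = Nat.card T * m ∧ ¬ 2 ∣ m
    · have htt : ∀ A B A' B' : FixPt T, A ≠ B → A' ≠ B' →
          ∃ τ ∈ Hb, τ • A = A' ∧ τ • B = B' := by
        intro A B A' B' hAB hAB'
        have hne' : A'.1 ≠ B'.1 := fun he => hAB' (Subtype.ext he)
        obtain ⟨g, hg, h1, h3⟩ := h2 A.1 B.1 A'.1 B'.1 (fun he => hAB (Subtype.ext he)) hne'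
        have hS : SylowIn 2 (pairStab G A'.1 B'.1) T :=
          ⟨fun t ht => mem_pairStab.2 ⟨hTG ht, A'.2 t ht, B'.2 t ht⟩, hTp, hQ _ _ hne'⟩
        have hS' : SylowIn 2 (pairStab G A'.1 B'.1) (T.map (MulAut.conj g).toMonoidHom) := by
          refine ⟨?_, hTp.map _, ?_⟩
          · rintro _ ⟨t, ht, rfl⟩
            refine mem_pairStab.2 ⟨mul_mem (mul_mem hg (hTG ht)) (inv_mem hg), ?_, ?_⟩
            · change (g * t * g⁻¹) • A'.1 = A'.1
              rw [← h1, mul_smul, mul_smul, inv_smul_smul, A.2 t ht]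
            · change (g * t * g⁻¹) • B'.1 = B'.1
              rw [← h3, mul_smul, mul_smul, inv_smul_smul, B.2 t ht]
          · rw [← Nat.card_congr (Subgroup.equivMapOfInjective T (MulAut.conj g).toMonoidHom
              (MulAut.conj g).injective).toEquiv]
            exact hQ _ _ hne'
        obtain ⟨x, hx, hconj⟩ := hS'.conj hS
        obtain ⟨hxG, hxA, hxB⟩ := mem_pairStab.1 hx
        have hxg : x * g ∈ Nz := by
          rw [hNz, Subgroup.mem_normalizer_iff]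
          intro y
          rw [show x * g * y * (x * g)⁻¹ = x * (g * y * g⁻¹) * x⁻¹ by group,
            ← hconj (g * y * g⁻¹)]
          exact ⟨fun hy => ⟨y, hy, rfl⟩, fun ⟨w, hw, he⟩ => by
            rwa [← (MulAut.conj g).injective (a₁ := w) (a₂ := y) he]⟩
        refine ⟨resHom T ⟨x * g, hxg⟩, ⟨⟨x * g, hxg⟩, mul_mem hxG hg, rfl⟩, Subtype.ext ?_,
          Subtype.ext ?_⟩
        · rw [resHom_smul]; change (x * g) • A.1 = _; rw [mul_smul, h1, hxA]
        · rw [resHom_smul]; change (x * g) • B.1 = _; rw [mul_smul, h3, hxB]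
      intro A B hAB
      obtain ⟨τ, hτ, h1, h3⟩ := htt A B B A hAB (Ne.symm hAB)
      have he := exists_invol_swap (g := τ) (x := A) (by rw [h1]; exact Ne.symm hAB) (by rw [h1, h3])
      obtain ⟨hv1, hv2⟩ := exists_invol_pow he
      obtain ⟨C, a, -, -, ha⟩ := hallhom _ (pow_mem hτ _) hv2 hv1
      obtain ⟨A₀, hA₀⟩ := exists_mem (P := FixPt T) a
      obtain ⟨B₀, hB₀, hB₀A⟩ := exists_mem_ne a A₀
      obtain ⟨ρ, hρ, h4, h5⟩ := htt A₀ B₀ A B (Ne.symm hB₀A) hAB
      refine ⟨ρ * τ ^ (orderOf τ / 2) * ρ⁻¹, mul_mem (mul_mem hρ (pow_mem hτ _)) (inv_mem hρ), ?_,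
        fun he => hv1 ?_, ?_, ?_⟩
      · generalize τ ^ (orderOf τ / 2) = v at hv2 ⊢
        rw [show ρ * v * ρ⁻¹ * (ρ * v * ρ⁻¹) = ρ * (v * v) * ρ⁻¹ by group, hv2, mul_one,
          mul_inv_cancel]
      · simpa [mul_inv_eq_one, mul_eq_left] using he
      · rw [← h4, mul_smul, mul_smul, inv_smul_smul, ha A₀ hA₀]
      · rw [← h5, mul_smul, mul_smul, inv_smul_smul, ha B₀ hB₀]
    · push Not at hQ
      obtain ⟨A₁, B₁, hne₁, hQ⟩ := hQ
      intro A B hAB
      have hne' : A.1 ≠ B.1 := fun he => hAB (Subtype.ext he)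
      obtain ⟨U, hTU, hUB, hUp, m, hm, hm2⟩ := exists_sylowIn (p := 2) (pairStab G A.1 B.1) T
        (fun t ht => mem_pairStab.2 ⟨hTG ht, A.2 t ht, B.2 t ht⟩) hTp
      have hlt : T < U := by
        refine lt_of_le_of_ne hTU fun he => ?_
        subst he
        rw [h2.card_pairStab hne₁ hne'] at hm
        exact hm2 (hQ m hm)
      haveI : Group.IsNilpotent U := hUp.isNilpotent
      have hsub : T.subgroupOf U < ⊤ := by
        rw [lt_top_iff_ne_top, ne_eq, Subgroup.subgroupOf_eq_top]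
        exact hlt.not_ge
      have hnc : NormalizerCondition U := normalizerCondition_of_isNilpotent
      obtain ⟨⟨x, hxU⟩, hxN, hxT⟩ := SetLike.exists_of_lt (hnc _ hsub)
      have hx : x ∈ Nz := by
        rw [hNz, Subgroup.mem_normalizer_iff]
        intro y
        constructor
        · intro hy
          exact (Subgroup.mem_normalizer_iff.1 hxN ⟨y, hTU hy⟩).1 hy
        · intro hy
          have hyU : y ∈ U := by
            have h1 := mul_mem (mul_mem (inv_mem hxU) (hTU hy)) hxU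
            simpa [mul_assoc] using h1
          exact (Subgroup.mem_normalizer_iff.1 hxN ⟨y, hyU⟩).2 hy
      obtain ⟨hxG, hxA, hxB⟩ := mem_pairStab.1 (hUB hxU)
      have hxp : IsPGroup 2 (Subgroup.zpowers x) := hUp.to_le (Subgroup.zpowers_le.2 hxU)
      set σ := resHom T ⟨x, hx⟩ with hσ
      have hσ1 : σ ≠ 1 := by
        intro h1
        apply hxT
        refine hker x hx hxG hxp ?_
        obtain ⟨QA, QB, QC, QD, hA', hB', hC', hD', hq⟩ := id hTQ
        have hf : ∀ Q : FixPt T, x • Q.1 = Q.1 := fun Q => by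
          have h3 := congrArg (fun τ : Coll (FixPt T) (FixLn T) => (τ • Q).1) h1
          simpa [hσ, resHom_smul] using h3
        exact ⟨⟨QA, hA'⟩, ⟨QB, hB'⟩, ⟨QC, hC'⟩, ⟨QD, hD'⟩, hq, hf _, hf _, hf _, hf _⟩
      obtain ⟨j, hj⟩ := IsPGroup.iff_card.1 hxp
      rw [Nat.card_zpowers] at hj
      have hdiv : orderOf σ ∣ 2 ^ j := by
        rw [← hj, ← Subgroup.orderOf_mk x hx]
        exact orderOf_map_dvd _ _
      obtain ⟨j', -, hj'⟩ := (Nat.dvd_prime_pow Nat.prime_two).1 hdiv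
      have hev : 2 ∣ orderOf σ := by
        rw [hj']
        refine dvd_pow_self 2 fun h0 => hσ1 ?_
        rw [h0, pow_zero] at hj'
        exact orderOf_eq_one_iff.1 hj'
      obtain ⟨hv1, hv2⟩ := exists_invol_pow hev
      have hσH : σ ∈ Hb := ⟨⟨x, hx⟩, hxG, rfl⟩
      refine ⟨_, pow_mem hσH _, hv2, hv1, ?_, ?_⟩
      · exact pow_mem (show σ ∈ MulAction.stabilizer _ A from Subtype.ext hxA) _
      · exact pow_mem (show σ ∈ MulAction.stabilizer _ B from Subtype.ext hxB) _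
  obtain ⟨q, e, hq, hre⟩ := hallhom.order_prime_pow hpairs
  refine h2.order_ne_prime_pow hno (p := q) (a := e * 2 ^ i) hq ?_
  rw [hi, show r = q ^ e from hre, ← pow_mul]

end H27.OW
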