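import Cfsg.Agent.H27.OW.Count

/-!
Perspectivities with a common axis: the elation subgroup, the Andre count of centres, and
groups of elations with two centres.
-/

set_option autoImplicit false
set_option linter.style.haveILetI false
set_option linter.unusedSectionVars false

namespace H27.OW

open Configuration

variable {P L : Type*} [Membership P L] [ProjectivePlane P L] [Finite P] [Finite L]

/-- An elation with axis `z` fixing a point off `z` is trivial. -/
theorem elation_fix_off {g : Coll P L} {z : L} {D X : P} (ha : Axis g z) (hD : D ∈ z)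
    (hc : Cen g D) (hX : X ∉ z) (hgX : g • X = X) : g = 1 :=
  eq_one_of_two_cen (ha.cen_of_fix hX hgX) hc fun he => hX (he ▸ hD)

/-- The elations with axis `z`, with the identity. -/
def trans (z : L) : Subgroup (Coll P L) where
  carrier := {g | Axis g z ∧ ∃ D : P, D ∈ z ∧ Cen g D}
  one_mem' := by
    obtain ⟨D, hD⟩ := exists_mem (P := P) z
    exact ⟨fun p _ => one_smul _ p, D, hD, fun l _ => one_smul _ l⟩
  mul_mem' := by
    rintro f g ⟨hfa, D, hD, hfc⟩ ⟨hga, D', hD', hgc⟩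
    have hfga : Axis (f * g) z := fun p hp => by rw [mul_smul, hga p hp, hfa p hp]
    refine ⟨hfga, ?_⟩
    by_cases hDD : D = D'
    · subst hDD
      exact ⟨D, hD, fun l hl => by rw [mul_smul, hgc l hl, hfc l hl]⟩
    obtain ⟨E, hE⟩ := hfga.exists_cen
    by_cases hEz : E ∈ z
    · exact ⟨E, hEz, hE⟩
    have hfix : (f * g) • E = E := hE.smul_point
    obtain ⟨y, hEy, hDy⟩ := exists_join (L := L) (show E ≠ D from fun he => hEz (he ▸ hD))
    obtain ⟨y', hEy', hDy'⟩ := exists_join (L := L) (show E ≠ D' from fun he => hEz (he ▸ hD'))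
    have hyy : y ≠ y' := by
      intro he
      subst he
      exact hEz ((line_eq hDD hDy hDy' hD hD') ▸ hEy)
    have h1 : g • E ∈ y' := smul_mem_of_mem (hgc y' hDy') hEy'
    have h2 : g • E ∈ y := by
      rw [← smul_mem_smul f (g • E) y, ← mul_smul, hfix, hfc y hDy]
      exact hEy
    have hgE : g • E = E := point_eq hyy h2 h1 hEy hEy'
    have hg1 : g = 1 := elation_fix_off hga hD' hgc hEz hgE
    exact ⟨D, hD, by rw [hg1, mul_one]; exact hfc⟩
  inv_mem' := by
    rintro f ⟨hfa, D, hD, hfc⟩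
    exact ⟨fun p hp => by rw [inv_smul_eq_iff]; exact (hfa p hp).symm, D, hD,
      fun l hl => by rw [inv_smul_eq_iff]; exact (hfc l hl).symm⟩

theorem mem_trans {g : Coll P L} {z : L} :
    g ∈ trans z ↔ Axis g z ∧ ∃ D : P, D ∈ z ∧ Cen g D := Iff.rfl

theorem trans_fix_off {g : Coll P L} {z : L} {X : P} (hg : g ∈ trans z) (hX : X ∉ z)
    (hgX : g • X = X) : g = 1 := by
  obtain ⟨ha, D, hD, hc⟩ := hg
  exact elation_fix_off ha hD hc hX hgX

theorem cen_unique {g : Coll P L} (hg : g ≠ 1) {C C' : P} (h : Cen g C) (h' : Cen g C') :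
    C = C' := by
  by_contra hne
  exact hg (eq_one_of_two_cen h h' hne)

theorem axis_unique {g : Coll P L} (hg : g ≠ 1) {a a' : L} (h : Axis g a) (h' : Axis g a') :
    a = a' := by
  by_contra hne
  exact hg (eq_one_of_two_axes h h' hne)

theorem trans_conj {g x : Coll P L} {z : L} (hg : g ∈ trans z) (hx : x • z = z) :
    x * g * x⁻¹ ∈ trans z := by
  obtain ⟨ha, D, hD, hc⟩ := hg
  have h1 := ha.conj x
  rw [hx] at h1
  exact ⟨h1, x • D, smul_mem_of_mem hx hD, hc.conj x⟩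

theorem cen_conj_of_fix {g x : Coll P L} {C : P} (h : Cen g C) (hx : x • C = C) :
    Cen (x * g * x⁻¹) C := by
  have h1 := h.conj x
  rwa [hx] at h1

/-- Andre: the centres of the homologies in `K` are as many as the elations in `K`. -/
theorem persp_count {z : L} (K : Subgroup (Coll P L)) (hK : ∀ g ∈ K, Axis g z) (S : Set P)
    (hS : ∀ D, D ∈ S ↔ D ∉ z ∧ ∃ g ∈ K, g ≠ 1 ∧ Cen g D) (hne : S.Nonempty) :
    Nat.card S = Nat.card ↥(K ⊓ trans z) := by
  classical
  let Y : SubMulAction K P :=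
    { carrier := S
      smul_mem' := fun k D hD => by
        obtain ⟨hDz, g, hg, hg1, hc⟩ := (hS D).1 hD
        refine (hS _).2 ⟨fun hmem => hDz ?_, (k : Coll P L) * g * (k : Coll P L)⁻¹,
          mul_mem (mul_mem k.2 hg) (inv_mem k.2), fun he => hg1 ?_, hc.conj _⟩
        · have hkz : (k : Coll P L) • z = z := (hK k k.2).smul_line
          exact (smul_mem_smul (k : Coll P L) D z).1 (by rw [hkz]; exact hmem)
        · simpa [mul_inv_eq_one, mul_eq_left] using he }
  haveI : Fintype K := Fintype.ofFinite _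
  haveI : Finite Y := inferInstanceAs (Finite S)
  haveI : Fintype Y := Fintype.ofFinite _
  haveI : Nonempty Y := hne.to_subtype
  set k := Nat.card K with hk
  set T := Finset.univ.filter fun g : K => (g : Coll P L) ∈ trans z with hT
  set F := Finset.univ.filter fun g : K => (g : Coll P L) ∉ trans z with hF
  have hTc : Nat.card ↥(K ⊓ trans z) = T.card := by
    rw [hT, ← Fintype.card_subtype, ← Nat.card_eq_fintype_card]
    exact Nat.card_congr
      { toFun := fun g => ⟨⟨g.1, g.2.1⟩, g.2.2⟩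
        invFun := fun g => ⟨g.1.1, g.1.2, g.2⟩
        left_inv := fun _ => rfl
        right_inv := fun _ => rfl }
  have hTF : T.card + F.card = k := by
    rw [hk, Nat.card_eq_fintype_card, hT, hF, Finset.card_filter_add_card_filter_not,
      Finset.card_univ]
  have hoff : ∀ D : Y, (D : P) ∉ z := fun D => ((hS _).1 D.2).1
  have hfix : ∀ g : K, Nat.card {x : Y // g • x = x} =
      if g = 1 then Nat.card Y else if (g : Coll P L) ∈ trans z then 0 else 1 := by
    intro g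
    split_ifs with h1 h2
    · subst h1
      exact Nat.card_congr (Equiv.subtypeUnivEquiv fun x => one_smul _ x)
    · haveI : IsEmpty {x : Y // g • x = x} := ⟨fun x => h1 (Subtype.ext
        (trans_fix_off h2 (hoff x.1) (congrArg Subtype.val x.2)))⟩
      exact Nat.card_of_isEmpty
    · have hg1 : (g : Coll P L) ≠ 1 := fun he => h1 (Subtype.ext he)
      obtain ⟨D, hD⟩ := (hK g g.2).exists_cen
      have hDz : D ∉ z := fun hmem => h2 ⟨hK g g.2, D, hmem, hD⟩
      have hDY : D ∈ S := (hS D).2 ⟨hDz, g, g.2, hg1, hD⟩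
      rw [Nat.card_eq_one_iff_exists]
      refine ⟨⟨⟨D, hDY⟩, Subtype.ext hD.smul_point⟩, fun x => Subtype.ext (Subtype.ext ?_)⟩
      exact cen_unique hg1 ((hK g g.2).cen_of_fix (hoff x.1) (congrArg Subtype.val x.2)) hD
  have hsum : ∑ g : K, Nat.card {x : Y // g • x = x} = Nat.card Y + F.card := by
    simp only [hfix]
    rw [← Finset.add_sum_erase _ _ (Finset.mem_univ (1 : K))]
    simp only [if_true]
    congr 1
    rw [Finset.sum_congr rfl (g := fun g : K => if (g : Coll P L) ∈ trans z then 0 else 1)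
        fun g hg => by rw [if_neg (Finset.ne_of_mem_erase hg)],
      Finset.sum_erase _ (by simp [one_mem]), hF, Finset.card_filter]
    refine Finset.sum_congr rfl fun g _ => ?_
    by_cases h : (g : Coll P L) ∈ trans z <;> simp [h]
  have hge : 2 * Nat.card Y ≤ ∑ g : K, Nat.card {x : Y // g • x = x} := by
    simp only [Nat.card_eq_fintype_card, Fintype.card_subtype, Finset.card_filter]
    rw [Finset.sum_comm, mul_comm, ← Finset.card_univ, ← smul_eq_mul,
      ← Finset.sum_const (2 : ℕ)]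
    refine Finset.sum_le_sum fun x _ => ?_
    rw [← Finset.card_filter]
    obtain ⟨-, g, hg, hg1, hc⟩ := (hS _).1 x.2
    refine Finset.one_lt_card.2 ⟨1, ?_, ⟨g, hg⟩, ?_, fun he => hg1 (congrArg Subtype.val he).symm⟩
    · simp
    · simp only [Finset.mem_filter, Finset.mem_univ, true_and]
      exact Subtype.ext hc.smul_point
  have hT1 : 0 < T.card := Finset.card_pos.2 ⟨1, by simp [hT, one_mem]⟩
  haveI : Nonempty (MulAction.orbitRel.Quotient K Y) :=
    ⟨Quotient.mk'' (Classical.arbitrary Y)⟩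
  have ht : 0 < Nat.card (MulAction.orbitRel.Quotient K Y) := Nat.card_pos
  have hb := sum_fixed (G := K) (X := Y)
  rw [hsum] at hge hb
  have ht1 : Nat.card (MulAction.orbitRel.Quotient K Y) = 1 := by
    by_contra hne1
    have : 2 * Nat.card K ≤ Nat.card (MulAction.orbitRel.Quotient K Y) * Nat.card K :=
      Nat.mul_le_mul_right _ (by omega)
    omega
  rw [ht1, one_mul] at hb
  change Nat.card Y = _
  omega

/-- Two homology centres give a nontrivial elation. -/
theorem exists_elation {z : L} (K : Subgroup (Coll P L)) (hK : ∀ g ∈ K, Axis g z) {D D' : P}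
    (hne : D ≠ D') (hD : D ∉ z) (hD' : D' ∉ z) (h : ∃ g ∈ K, g ≠ 1 ∧ Cen g D)
    (h' : ∃ g ∈ K, g ≠ 1 ∧ Cen g D') : ∃ g ∈ K, g ≠ 1 ∧ g ∈ trans z := by
  have h2 : 2 ≤ Nat.card ↥(K ⊓ trans z) := by
    rw [← persp_count K hK {E | E ∉ z ∧ ∃ g ∈ K, g ≠ 1 ∧ Cen g E} (fun _ => Iff.rfl)
      ⟨D, hD, h⟩, Nat.card_coe_set_eq]
    exact (Set.one_lt_ncard (Set.toFinite _)).2 ⟨D, ⟨hD, h⟩, D', ⟨hD', h'⟩, hne⟩
  haveI := Finite.one_lt_card_iff_nontrivial.1 h2
  obtain ⟨⟨g, hgK, hgT⟩, hg⟩ := exists_ne (1 : ↥(K ⊓ trans z))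
  exact ⟨g, hgK, fun he => hg (Subtype.ext he), hgT⟩

/-- Two homology axes give a nontrivial elation with centre `B`. -/
theorem exists_elation_dual {B : P} (K : Subgroup (Coll P L)) (hK : ∀ g ∈ K, Cen g B) {y y' : L}
    (hne : y ≠ y') (hy : B ∉ y) (hy' : B ∉ y') (h : ∃ g ∈ K, g ≠ 1 ∧ Axis g y)
    (h' : ∃ g ∈ K, g ≠ 1 ∧ Axis g y') : ∃ g ∈ K, g ≠ 1 ∧ ∃ a : L, B ∈ a ∧ Axis g a := by
  have hmap : ∀ y : L, (∃ g ∈ K, g ≠ 1 ∧ Axis g y) →
      ∃ g ∈ K.map (dualColl (P := P) (L := L)).toMonoidHom, g ≠ 1 ∧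
        Cen (P := Dual L) (L := Dual P) g y := fun y ⟨g, hg, hg1, ha⟩ =>
    ⟨dualColl g, ⟨g, hg, rfl⟩, fun he => hg1 (dualColl.map_eq_one_iff.1 he), cen_dual.2 ha⟩
  obtain ⟨g', ⟨g, hg, rfl⟩, hg1, -, a, ha, hc⟩ := exists_elation (P := Dual L) (L := Dual P)
    (z := B) (K.map (dualColl (P := P) (L := L)).toMonoidHom)
    (by rintro _ ⟨g, hg, rfl⟩; exact axis_dual.2 (hK g hg)) hne hy hy' (hmap y h) (hmap y' h')
  exact ⟨g, hg, fun he => hg1 (by rw [he, map_one]), a, ha, cen_dual.1 hc⟩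

/-- Elations with one axis and two centres: abelian of prime exponent. -/
theorem trans_exp {z : L} (T : Subgroup (Coll P L)) (hT : T ≤ trans z)
    (h2 : ∃ x ∈ T, ∃ y ∈ T, ∃ D D' : P, x ≠ 1 ∧ y ≠ 1 ∧ Cen x D ∧ Cen y D' ∧ D ≠ D') :
    (∀ x ∈ T, ∀ y ∈ T, x * y = y * x) ∧ ∃ q : ℕ, q.Prime ∧ ∀ x ∈ T, x ^ q = 1 := by
  obtain ⟨x₀, hx₀, y₀, hy₀, D₀, D₀', hx1, hy1, hcx, hcy, hDD⟩ := h2
  have hdiff : ∀ x ∈ T, ∀ y ∈ T, ∀ D D' : P, Cen x D → Cen y D' → D ≠ D' → x * y = y * x := by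
    intro x hx y hy D D' hc hc' hne
    by_cases hx' : x = 1
    · rw [hx', one_mul, mul_one]
    by_cases hy' : y = 1
    · rw [hy', one_mul, mul_one]
    have hfix : ∀ {w : Coll P L} {E : P}, w ∈ T → w ≠ 1 → Cen w E → ∀ v ∈ T, v • E = E := by
      intro w E hw hw1 hcw v hv
      obtain ⟨-, F, hF, hcF⟩ := hT hw
      rw [cen_unique hw1 hcw hcF]
      exact (hT hv).1 F hF
    have e1 : Cen (x * y * x⁻¹ * y⁻¹) D' := fun l hl => by
      have h1 := cen_conj_of_fix hc' (hfix hy hy' hc' x hx)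
      rw [mul_smul, (cenGrp D').inv_mem hc' l hl, h1 l hl]
    have e2 : Cen (x * y * x⁻¹ * y⁻¹) D := fun l hl => by
      have h1 := cen_conj_of_fix ((cenGrp D).inv_mem hc) (hfix hx hx' hc y hy)
      rw [show x * y * x⁻¹ * y⁻¹ = x * (y * x⁻¹ * y⁻¹) by group, mul_smul, h1 l hl, hc l hl]
    have h3 := eq_one_of_two_cen e2 e1 hne
    calc x * y = x * y * x⁻¹ * y⁻¹ * (y * x) := by group
      _ = y * x := by rw [h3, one_mul]
  have hother : ∀ D : P, ∃ w ∈ T, w ≠ 1 ∧ ∃ E, Cen w E ∧ E ≠ D := by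
    intro D
    by_cases h : D₀ = D
    · exact ⟨y₀, hy₀, hy1, D₀', hcy, h ▸ Ne.symm hDD⟩
    · exact ⟨x₀, hx₀, hx1, D₀, hcx, h⟩
  have hcomm : ∀ x ∈ T, ∀ y ∈ T, x * y = y * x := by
    intro x hx y hy
    obtain ⟨-, D, -, hc⟩ := hT hx
    obtain ⟨-, D', -, hc'⟩ := hT hy
    by_cases hne : D = D'
    · subst hne
      obtain ⟨w, hw, hw1, E, hcw, hED⟩ := hother D
      obtain ⟨-, F, -, hcF⟩ := hT (mul_mem hy hw)
      have hFD : F ≠ D := fun he => hw1 <| eq_one_of_two_cen hcw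
        (show Cen w D from by
          have := (cenGrp D).mul_mem ((cenGrp D).inv_mem hc') (he ▸ hcF : Cen (y * w) D)
          rwa [inv_mul_cancel_left] at this) hED
      have h1 := hdiff x hx w hw D E hc hcw (Ne.symm hED)
      have h2 := hdiff x hx (y * w) (mul_mem hy hw) D F hc hcF (Ne.symm hFD)
      have h3 : x * y * w = y * x * w := by
        rw [mul_assoc, h2, mul_assoc, mul_assoc, h1]
      exact mul_right_cancel h3
    · exact hdiff x hx y hy D D' hc hc' hne
  refine ⟨hcomm, ?_⟩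
  obtain ⟨q, hq, hqd⟩ := Nat.exists_prime_and_dvd (show orderOf x₀ ≠ 1 from
    fun he => hx1 (orderOf_eq_one_iff.1 he))
  haveI : Fact q.Prime := ⟨hq⟩
  set u := x₀ ^ (orderOf x₀ / q) with hu
  have huT : u ∈ T := pow_mem hx₀ _
  have hu1 : orderOf u = q := orderOf_pow_orderOf_div (orderOf_pos x₀).ne' hqd
  have hune : u ≠ 1 := fun he => by
    rw [he, orderOf_one] at hu1
    exact hq.ne_one hu1.symm
  have huc : Cen u D₀ := (cenGrp D₀).pow_mem hcx _
  have huq : u ^ q = 1 := hu1 ▸ pow_orderOf_eq_one u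
  have key : ∀ v ∈ T, v ^ q = 1 → v ≠ 1 → ∀ D, Cen v D → ∀ y ∈ T, ¬ Cen y D → y ^ q = 1 := by
    intro v hv hvq hv1 D hc y hy hyD
    obtain ⟨-, E, -, hcE⟩ := hT hy
    obtain ⟨-, F, -, hcF⟩ := hT (mul_mem hv hy)
    have hpow : (v * y) ^ q = y ^ q := by
      have h : Commute v y := hcomm v hv y hy
      rw [h.mul_pow, hvq, one_mul]
    have hFE : F ≠ E := fun he => hv1 <| eq_one_of_two_cen hc
      (show Cen v E from by
        have := (cenGrp E).mul_mem (he ▸ hcF : Cen (v * y) E) ((cenGrp E).inv_mem hcE)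
        rwa [mul_inv_cancel_right] at this)
      fun hDE => hyD (hDE ▸ hcE)
    exact eq_one_of_two_cen ((cenGrp F).pow_mem hcF q |> (hpow ▸ ·)) ((cenGrp E).pow_mem hcE q) hFE
  refine ⟨q, hq, fun y hy => ?_⟩
  by_cases hyD : Cen y D₀
  · by_cases hy' : y = 1
    · rw [hy', one_pow]
    have hy0 : ¬ Cen y₀ D₀ := fun h => hy1 (eq_one_of_two_cen h hcy hDD)
    have hyq : y₀ ^ q = 1 := key u huT huq hune D₀ huc y₀ hy₀ hy0
    exact key y₀ hy₀ hyq hy1 D₀' hcy y hy fun h => hy' (eq_one_of_two_cen hyD h hDD)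
  · exact key u huT huq hune D₀ huc y hy hyD

theorem card_eq_prime_pow {G : Type*} [Group G] [Finite G] (T : Subgroup G) {q : ℕ} (hq : q.Prime)
    (h : ∀ x ∈ T, x ^ q = 1) : ∃ k : ℕ, Nat.card T = q ^ k := by
  haveI : Fact q.Prime := ⟨hq⟩
  exact IsPGroup.iff_card.1 fun x => ⟨1, Subtype.ext (by simpa using h x x.2)⟩

end H27.OW
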