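import Cfsg.Agent.H27.OW.Main

/-!
A group transitive on ordered pairs of points contains, for each line, all elations with that axis:
the plane is a translation plane for every line.
-/

set_option autoImplicit false
set_option linter.style.haveILetI false
set_option linter.unusedSectionVars false

namespace H27.OW

open Configuration

variable {P L : Type*} [Membership P L] [ProjectivePlane P L] [Finite P] [Finite L]
variable {G : Subgroup (Coll P L)}

theorem TwoTransPts.flag (h2 : TwoTransPts G) {A A' : P} {l l' : L} (hA : A ∈ l) (hA' : A' ∈ l') :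
    ∃ g ∈ G, g • A = A' ∧ g • l = l' := by
  obtain ⟨B, hB, hBA⟩ := exists_mem_ne l A
  obtain ⟨B', hB', hBA'⟩ := exists_mem_ne l' A'
  obtain ⟨g, hg, h1, h3⟩ := h2 A B A' B' (Ne.symm hBA) (Ne.symm hBA')
  exact ⟨g, hg, h1, line_eq (Ne.symm hBA') (h1 ▸ (smul_mem_smul g A l).2 hA)
    (h3 ▸ (smul_mem_smul g B l).2 hB) hA' hB'⟩

theorem persp_le_trans {A : P} {l : L} (hA : A ∈ l) : perspGrp A l ≤ trans l :=
  fun _ hg => ⟨hg.2, A, hA, hg.1⟩

/-- A group of elations with axis `l` acts semiregularly off `l`. -/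
theorem elation_orbit_card {l : L} (T : Subgroup (Coll P L)) (hT : T ≤ trans l) {X : P}
    (hX : X ∉ l) : Nat.card {Y : P // ∃ t ∈ T, t • X = Y} = Nat.card T := by
  rw [card_orbit_mul T X]
  have : T ⊓ MulAction.stabilizer (Coll P L) X = ⊥ :=
    (Subgroup.eq_bot_iff_forall _).2 fun t ht => trans_fix_off (hT ht.1) hX ht.2
  rw [this, Subgroup.card_bot, mul_one]

/-- The elations with axis `l` are partitioned by their centres. -/
theorem card_trans_eq {l : L} (T : Subgroup (Coll P L)) (hT : T ≤ trans l) (h : ℕ)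
    (hh : ∀ A : P, A ∈ l → Nat.card ↥(T ⊓ cenGrp A) = h) :
    Nat.card T - 1 = (ProjectivePlane.order P L + 1) * (h - 1) := by
  classical
  haveI := Fintype.ofFinite P
  haveI : Fintype (Coll P L) := Fintype.ofFinite _
  have herase : ∀ (K : Subgroup (Coll P L)),
      ((Finset.univ.filter fun t : Coll P L => t ∈ K).erase 1).card = Nat.card K - 1 := fun K => by
    rw [Finset.card_erase_of_mem (by simp [one_mem]), Nat.card_eq_fintype_card,
      Fintype.card_subtype]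
  have hfib : (Finset.univ.filter fun t : Coll P L => t ∈ T).erase 1 =
      (Finset.univ.filter fun A : P => A ∈ l).biUnion fun A =>
        (Finset.univ.filter fun t : Coll P L => t ∈ T ⊓ cenGrp A).erase 1 := by
    ext t
    simp only [Finset.mem_erase, Finset.mem_filter, Finset.mem_univ, true_and, Finset.mem_biUnion]
    constructor
    · rintro ⟨h1, ht⟩
      obtain ⟨-, A, hA, hc⟩ := hT ht
      exact ⟨A, hA, h1, ht, hc⟩
    · rintro ⟨A, -, h1, ht, -⟩
      exact ⟨h1, ht⟩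
  rw [← herase, hfib, Finset.card_biUnion]
  · rw [Finset.sum_congr rfl (g := fun _ => h - 1) fun A hA => by
      rw [herase, hh A (Finset.mem_filter.1 hA).2], Finset.sum_const, smul_eq_mul,
      ← Fintype.card_subtype, ← Nat.card_eq_fintype_card, card_on]
  · intro A _ B _ hne
    rw [Function.onFun, Finset.disjoint_left]
    intro t h1 h2
    simp only [Finset.mem_erase, Finset.mem_filter, Finset.mem_univ, true_and] at h1 h2
    exact h1.1 (eq_one_of_two_cen h1.2.2 h2.2.2 hne)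

theorem TwoTransPts.exists_elation (h2 : TwoTransPts G) :
    ∃ g ∈ G, g ≠ 1 ∧ ∃ (A : P) (a : L), A ∈ a ∧ Cen g A ∧ Axis g a := by
  obtain ⟨g, hg, hg1, a, ha⟩ := h2.exists_persp
  obtain ⟨C, hC⟩ := ha.exists_cen
  by_cases hCa : C ∈ a
  · exact ⟨g, hg, hg1, C, a, hCa, hC, ha⟩
  obtain ⟨y, hy, hya⟩ : ∃ y : L, C ∈ y ∧ y ≠ a := by
    obtain ⟨y, hy⟩ := exists_through (L := L) C
    exact ⟨y, hy, fun he => hCa (he ▸ hy)⟩
  obtain ⟨A, hAy, hAa⟩ := exists_meet (P := P) hya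
  obtain ⟨D, hDy, hDC, hDA⟩ := exists_mem_ne_ne y C A
  have hDa : D ∉ a := fun h => hDA (point_eq hya hDy h hAy hAa)
  obtain ⟨x, hx, hxa, hxC⟩ := h2.affine hCa hDa
  obtain ⟨t, ⟨htG, -⟩, ht1, hta, E, hE, htE⟩ := OW.exists_elation (G ⊓ axisGrp a)
    (fun k hk => hk.2) (Ne.symm hDC) hCa hDa ⟨g, ⟨hg, ha⟩, hg1, hC⟩
    ⟨x * g * x⁻¹, ⟨G.mul_mem (G.mul_mem hx hg) (G.inv_mem hx), by
      have h1 := ha.conj x
      rwa [hxa] at h1⟩, fun he => hg1 (by simpa [mul_inv_eq_one, mul_eq_left] using he),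
      hxC ▸ hC.conj x⟩
  exact ⟨t, htG, ht1, E, a, hE, htE, hta⟩

/-- **Step 3.** For every line the elations in `G` with that axis form an elementary abelian group,
those with a given centre being as many as the order of the plane. -/
theorem TwoTransPts.translations (h2 : TwoTransPts G) (l : L) :
    (∀ x ∈ G ⊓ trans l, ∀ y ∈ G ⊓ trans l, x * y = y * x) ∧
      (∃ p : ℕ, p.Prime ∧ ∀ x ∈ G ⊓ trans l, x ^ p = 1) ∧
      Nat.card ↥(G ⊓ trans l) = ProjectivePlane.order P L ^ 2 ∧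
      ∀ A : P, A ∈ l → Nat.card ↥(G ⊓ perspGrp A l) = ProjectivePlane.order P L := by
  classical
  set n := ProjectivePlane.order P L with hn
  obtain ⟨e, he, he1, A₀, a₀, hA₀, hec, hea⟩ := h2.exists_elation
  obtain ⟨h, hhdef⟩ : ∃ h, Nat.card ↥(G ⊓ perspGrp A₀ a₀) = h := ⟨_, rfl⟩
  have hall : ∀ A : P, A ∈ l → Nat.card ↥(G ⊓ perspGrp A l) = h := by
    intro A hA
    obtain ⟨g, hg, rfl, rfl⟩ := h2.flag hA₀ hA
    rw [← hhdef]
    refine Nat.card_congr
      { toFun := fun x => ⟨g⁻¹ * x.1 * g, G.mul_mem (G.mul_mem (G.inv_mem hg) x.2.1) hg, ?_, ?_⟩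
        invFun := fun x => ⟨g * x.1 * g⁻¹, G.mul_mem (G.mul_mem hg x.2.1) (G.inv_mem hg), x.2.2.1.conj g,
          x.2.2.2.conj g⟩
        left_inv := fun x => Subtype.ext (by simp [mul_assoc])
        right_inv := fun x => Subtype.ext (by simp [mul_assoc]) }
    · have h1 := x.2.2.1.conj g⁻¹
      rwa [inv_inv, inv_smul_smul] at h1
    · have h1 := x.2.2.2.conj g⁻¹
      rwa [inv_inv, inv_smul_smul] at h1
  have hh2 : 2 ≤ h := by
    rw [← hhdef]
    haveI : Nontrivial ↥(G ⊓ perspGrp A₀ a₀) :=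
      ⟨⟨⟨e, he, hec, hea⟩, 1, fun h => he1 (congrArg Subtype.val h)⟩⟩
    exact Finite.one_lt_card
  set T := G ⊓ trans l with hT
  have hcenT : ∀ A : P, A ∈ l → Nat.card ↥(T ⊓ cenGrp A) = h := by
    intro A hA
    rw [← hall A hA]
    congr 2
    ext x
    simp only [hT, Subgroup.mem_inf, mem_cenGrp, mem_perspGrp, mem_trans]
    exact ⟨fun hx => ⟨hx.1.1, hx.2, hx.1.2.1⟩, fun hx => ⟨⟨hx.1, hx.2.2, A, hA, hx.2.1⟩, hx.2.1⟩⟩
  have hsum := card_trans_eq T inf_le_right h hcenT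
  have hTn : Nat.card T ∣ n ^ 2 := by
    rw [hn, ← card_notMem (P := P) l]
    refine dvd_card_invariant T _ {X : P | X ∉ l} (fun t ht X hX hmem => hX ?_) fun X hX => ?_
    · have h1 := (ht.2.1).smul_line
      exact (smul_mem_smul t X l).1 (by rw [h1]; exact hmem)
    · rw [elation_orbit_card T inf_le_right hX]
  obtain ⟨A, hA⟩ := exists_mem (P := P) l
  have hhn : h ∣ n := by
    obtain ⟨y, hy, hyl⟩ := exists_through_ne A l
    rw [← hall A hA, hn, ← card_on_ne hy]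
    refine dvd_card_invariant (G ⊓ perspGrp A l) _ {X : P | X ∈ y ∧ X ≠ A}
      (fun t ht X hX => ⟨smul_mem_of_mem (ht.2.1 y hy) hX.1,
        fun he => hX.2 (MulAction.injective t (he.trans ht.2.1.smul_point.symm))⟩) fun X hX => ?_
    rw [elation_orbit_card (G ⊓ perspGrp A l) (inf_le_right.trans (persp_le_trans hA))
      fun hXl => hX.2 (point_eq hyl hX.1 hXl hy hA)]
  obtain ⟨n', hn'⟩ := hhn
  have hn1 : 1 < n := ProjectivePlane.one_lt_order P L
  have hn'pos : 0 < n' := by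
    rcases Nat.eq_zero_or_pos n' with h0 | h0
    · rw [h0, mul_zero] at hn'; omega
    · exact h0
  obtain ⟨h', rfl⟩ : ∃ h', h = h' + 1 := ⟨h - 1, by omega⟩
  have hTc : Nat.card T = (h' + 1) * (n' * h' + 1) := by
    have h1 : 0 < Nat.card T := Nat.card_pos
    rw [Nat.add_sub_cancel, ← hn, hn'] at hsum
    have h3 : Nat.card T = ((h' + 1) * n' + 1) * h' + 1 := by omega
    rw [h3]; ring
  have hn'1 : n' = 1 := by
    rw [hTc, hn', mul_pow, pow_two (h' + 1), mul_assoc] at hTn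
    have h1 := Nat.dvd_of_mul_dvd_mul_left (Nat.succ_pos h') hTn
    have hco : Nat.Coprime (n' * h' + 1) (n' ^ 2) := by
      refine Nat.Coprime.pow_right 2 ?_
      rw [Nat.coprime_mul_left_add_left]
      exact Nat.coprime_one_left n'
    have h3 := Nat.le_of_dvd (Nat.succ_pos h') (hco.dvd_of_dvd_mul_right h1)
    by_contra hne
    have h4 : 2 * h' ≤ n' * h' := Nat.mul_le_mul_right _ (by omega)
    omega
  rw [hn'1, mul_one] at hn'
  have hper : ∀ A : P, A ∈ l → Nat.card ↥(G ⊓ perspGrp A l) = n := fun A hA =>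
    (hall A hA).trans hn'.symm
  obtain ⟨B, hB, hBA⟩ := exists_mem_ne l A
  have hnt : ∀ D : P, D ∈ l → ∃ x ∈ T, x ≠ 1 ∧ Cen x D := by
    intro D hD
    haveI : Nontrivial ↥(T ⊓ cenGrp D) :=
      Finite.one_lt_card_iff_nontrivial.1 (by rw [hcenT D hD]; omega)
    obtain ⟨⟨x, hx, hxc⟩, hne⟩ := exists_ne (1 : ↥(T ⊓ cenGrp D))
    exact ⟨x, hx, fun h => hne (Subtype.ext h), hxc⟩
  obtain ⟨x, hx, hx1, hxc⟩ := hnt A hA
  obtain ⟨y, hy, hy1, hyc⟩ := hnt B hB
  obtain ⟨hcomm, hexp⟩ := trans_exp T inf_le_right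
    ⟨x, hx, y, hy, A, B, hx1, hy1, hxc, hyc, Ne.symm hBA⟩
  refine ⟨hcomm, hexp, ?_, hper⟩
  rw [hTc, hn'1, one_mul, ← hn', pow_two]

/-- The elations with centre `A` and axis `l` are transitive on the affine part of lines at `A`. -/
theorem TwoTransPts.elation_transitive (h2 : TwoTransPts G) {A : P} {l y : L} (hA : A ∈ l)
    (hy : A ∈ y) (hyl : y ≠ l) {X Y : P} (hX : X ∈ y) (hXA : X ≠ A) (hY : Y ∈ y) (hYA : Y ≠ A) :
    ∃ t ∈ G ⊓ perspGrp A l, t • X = Y := by
  set E := G ⊓ perspGrp A l with hE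
  have hXl : X ∉ l := fun h => hXA (point_eq hyl hX h hy hA)
  have hc : Nat.card {Z : P // ∃ t ∈ E, t • X = Z} = Nat.card {Z : P // Z ∈ y ∧ Z ≠ A} := by
    rw [elation_orbit_card E (inf_le_right.trans (persp_le_trans hA)) hXl,
      (h2.translations l).2.2.2 A hA, card_on_ne hy]
  have hinj : Function.Injective (fun Z : {Z : P // ∃ t ∈ E, t • X = Z} =>
      (⟨Z.1, by
        obtain ⟨t, ht, he⟩ := Z.2
        rw [← he]
        exact ⟨smul_mem_of_mem (ht.2.1 y hy) hX,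
          fun h => hXA (MulAction.injective t (h.trans ht.2.1.smul_point.symm))⟩⟩ :
        {Z : P // Z ∈ y ∧ Z ≠ A})) :=
    fun Z Z' he => Subtype.ext (congrArg (fun v : {Z : P // Z ∈ y ∧ Z ≠ A} => v.1) he)
  obtain ⟨⟨Z, t, ht, hZ⟩, he⟩ := (hinj.bijective_of_nat_card_le hc.ge).2 ⟨Y, hY, hYA⟩
  exact ⟨t, ht, hZ.trans (congrArg Subtype.val he)⟩

/-- The translations are transitive on the affine points. -/
theorem TwoTransPts.translation_transitive (h2 : TwoTransPts G) {l : L} {X Y : P} (hX : X ∉ l)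
    (hY : Y ∉ l) : ∃ t ∈ G ⊓ trans l, t • X = Y := by
  by_cases hXY : X = Y
  · exact ⟨1, one_mem _, by rw [one_smul, hXY]⟩
  obtain ⟨y, hXy, hYy⟩ := exists_join (L := L) hXY
  have hyl : y ≠ l := fun he => hX (he ▸ hXy)
  obtain ⟨A, hAy, hAl⟩ := exists_meet (P := P) hyl
  obtain ⟨t, ht, he⟩ := h2.elation_transitive hAl hAy hyl hXy (fun h => hX (h ▸ hAl)) hYy
    (fun h => hY (h ▸ hAl))
  exact ⟨t, ⟨ht.1, persp_le_trans hAl ht.2⟩, he⟩

end H27.OW
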